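import Cfsg.Agent.Lib.KnownA.RecipOrder.Orth

/-!
Element orders from self-reciprocal characteristic polynomials.
-/

set_option autoImplicit false

namespace CfsgLib.KnownA.RecipOrder

open Polynomial CfsgLib.Classical.SemiPalin

/-- The least power of `p` at least `N`. -/
abbrev ppow (p N : ℕ) : ℕ := p ^ Nat.clog p N

theorem le_ppow {p : ℕ} (hp : 2 ≤ p) (N : ℕ) : N ≤ ppow p N := Nat.le_pow_clog hp N

theorem ppow_mono {p : ℕ} (hp : 2 ≤ p) {a b : ℕ} (h : a ≤ b) : ppow p a ≤ ppow p b :=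
  Nat.pow_le_pow_right (by omega) (Nat.clog_mono_right p h)

theorem ppow_le_one {p N : ℕ} (h : N ≤ 1) : ppow p N = 1 := by
  rw [ppow, Nat.clog_of_right_le_one h, pow_zero]

theorem ppow_le_mul {p N : ℕ} (hp : 2 ≤ p) (h : 2 ≤ N) : ppow p N ≤ p * (N - 1) := by
  have h1 := Nat.pow_pred_clog_lt_self (b := p) hp (show 1 < N by omega)
  obtain ⟨k, hk⟩ : ∃ k, Nat.clog p N = k + 1 :=
    ⟨Nat.clog p N - 1, by have := Nat.clog_pos (b := p) hp h; omega⟩
  rw [hk, Nat.pred_succ] at h1
  rw [ppow, hk, pow_succ']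
  exact Nat.mul_le_mul le_rfl (by omega)

theorem succ_le_two_pow (k : ℕ) : k + 1 ≤ 2 ^ k := by
  induction k with
  | zero => simp
  | succ k ih => rw [pow_succ]; omega

theorem ppow_le_pred {p q M : ℕ} (hp : 2 ≤ p) (hq : p ≤ q) : ppow p M ≤ q ^ (M - 1) := by
  rcases le_or_gt M 1 with h | h
  · rw [ppow_le_one h]; exact Nat.one_le_pow _ _ (by omega)
  · obtain ⟨k, rfl⟩ : ∃ k, M = k + 2 := ⟨M - 2, by omega⟩
    calc ppow p (k + 2) ≤ p * (k + 2 - 1) := ppow_le_mul hp (by omega)
      _ ≤ p * p ^ k := Nat.mul_le_mul le_rfl ((show k + 2 - 1 = k + 1 by omega) ▸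
          (succ_le_two_pow k).trans (Nat.pow_le_pow_left hp k))
      _ ≤ q ^ (k + 2 - 1) := by
          rw [show k + 2 - 1 = k + 1 by omega, ← pow_succ']; exact Nat.pow_le_pow_left hq _

theorem ppow_two_mul {p q : ℕ} (hp : 2 ≤ p) (hq : p ≤ q) (s : ℕ) : ppow p (2 * s) ≤ q ^ s := by
  rcases Nat.eq_zero_or_pos s with rfl | hs
  · rw [ppow_le_one (by omega), pow_zero]
  refine le_trans ?_ (Nat.pow_le_pow_left hq s)
  rcases Nat.lt_or_ge p 3 with h | h
  · obtain rfl : p = 2 := by omega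
    refine Nat.pow_le_pow_right (by omega) (Nat.clog_le_of_le_pow ?_)
    calc 2 * s ≤ 2 * 2 ^ (s - 1) :=
          Nat.mul_le_mul le_rfl ((show s = s - 1 + 1 by omega) ▸ succ_le_two_pow (s - 1))
      _ = 2 ^ s := by rw [← pow_succ', Nat.sub_add_cancel hs]
  · obtain ⟨k, rfl⟩ : ∃ k, s = k + 1 := ⟨s - 1, by omega⟩
    have h3 : ∀ k, 2 * k + 1 ≤ 3 ^ k := fun k => by
      induction k with
      | zero => simp
      | succ k ih => rw [pow_succ]; omega
    calc ppow p (2 * (k + 1)) ≤ p * (2 * (k + 1) - 1) := ppow_le_mul hp (by omega)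
      _ ≤ p * p ^ k := Nat.mul_le_mul le_rfl ((show 2 * (k + 1) - 1 = 2 * k + 1 by omega) ▸
          (h3 k).trans (Nat.pow_le_pow_left h k))
      _ = p ^ (k + 1) := by rw [pow_succ']

theorem ppow_two_mul_succ {p q : ℕ} (hp : 3 ≤ p) (hq : p ≤ q) (s : ℕ) :
    ppow p (2 * s + 1) ≤ q ^ s := by
  refine le_trans ?_ (Nat.pow_le_pow_left hq s)
  have h3 : ∀ k, 2 * k + 1 ≤ 3 ^ k := fun k => by
    induction k with
    | zero => simp
    | succ k ih => rw [pow_succ]; omega
  exact Nat.pow_le_pow_right (by omega) (Nat.clog_le_of_le_pow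
    ((h3 s).trans (Nat.pow_le_pow_left hp s)))

theorem ppow_max {p : ℕ} (hp : 2 ≤ p) (a b : ℕ) :
    ppow p (max a b) = max (ppow p a) (ppow p b) := by
  rcases le_total a b with h | h
  · rw [max_eq_right h, max_eq_right (ppow_mono hp h)]
  · rw [max_eq_left h, max_eq_left (ppow_mono hp h)]

variable {F : Type*} [Field F] [Fintype F] {p : ℕ} [hp : Fact p.Prime] [CharP F p]

theorem char_le_card : p ≤ Fintype.card F := by
  obtain ⟨k, -, hk⟩ := FiniteField.card F p
  rw [hk]
  exact Nat.le_self_pow k.pos.ne' p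

/-- The exponent. -/
def expo (p u v M L : ℕ) : ℕ :=
  if 1 ≤ M ∨ v = 0 then L * ppow p (max M (max u v))
  else if u = 0 then ppow p v else 2 * ppow p (max u v)

/-- A self-reciprocal polynomial divides `X ^ E ∓ 1`. -/
theorem exists_exponent (f : F[X]) (hf : f.Monic) (h0 : f.coeff 0 ≠ 0)
    (ht : tilde (RingHom.id F) f = f) :
    ∃ u v h h₀ M L, u + v + 2 * h = f.natDegree ∧ h₀ ≤ h ∧ h₀ + (M - 1) ≤ h ∧
      L * (Fintype.card F - 1) < Fintype.card F ^ (h₀ + 1) ∧ 1 ≤ L ∧ (p = 2 → v = 0) ∧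
      (M = 0 → h = 0 ∧ L = 1) ∧ f.coeff 0 = (-1) ^ u ∧
      ∃ c : F, c * c = 1 ∧ f ∣ X ^ expo p u v M L - C c := by
  classical
  obtain ⟨u', v', h, M, L, f₀, hfe, hA⟩ := exists_split f hf h0 ht
  obtain ⟨h₁, hm₁, hh₁⟩ := hA.ex
  obtain ⟨h₀, hm, hh0, hh⟩ : ∃ h₀, Merge (Fintype.card F) h₀ L ∧ h₀ ≤ h ∧ h₀ + (M - 1) ≤ h := by
    rcases Nat.eq_zero_or_pos M with rfl | hM
    · obtain ⟨-, rfl⟩ := hA.zero rfl
      exact ⟨0, merge_one _, Nat.zero_le _, by omega⟩
    · exact ⟨h₁, hm₁, by omega, by omega⟩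
  obtain ⟨u, v, hf', huv, hv⟩ : ∃ u v, f = (X - C 1) ^ u * (X - C (-1)) ^ v * f₀ ∧
      u + v = u' + v' ∧ (p = 2 → v = 0) := by
    by_cases h2 : p = 2
    · subst h2
      refine ⟨u' + v', 0, ?_, rfl, fun _ => rfl⟩
      rw [hfe, CharTwo.neg_eq, pow_zero, mul_one, ← pow_add]
    · exact ⟨u', v', hfe, rfl, fun h => absurd h h2⟩
  have hdeg : u + v + 2 * h = f.natDegree := by
    rw [hf', ((monic_X_sub_C _).pow u |>.mul ((monic_X_sub_C _).pow v)).natDegree_mul hA.monic,
      ((monic_X_sub_C _).pow u).natDegree_mul ((monic_X_sub_C _).pow v), natDegree_pow,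
      natDegree_pow, natDegree_X_sub_C, natDegree_X_sub_C, hA.deg]
    ring
  have hc0 : f.coeff 0 = (-1) ^ u := by
    have he : ∀ g : F[X], g.coeff 0 = g.eval 0 := fun g => coeff_zero_eq_eval_zero g
    rw [hf', he, eval_mul, eval_mul, eval_pow, eval_pow, eval_sub, eval_sub, eval_X, eval_C, eval_C,
      ← he f₀, hA.const]
    simp
  refine ⟨u, v, h, h₀, M, L, hdeg, hh0, hh, hm.bound Fintype.one_lt_card, hm.one_le, hv, hA.zero,
    hc0, ?_⟩
  have hp2 := hp.out.two_le
  have hfrob : ∀ (c : F) (k j : ℕ), ((X : F[X]) ^ k - C c) ^ p ^ j = X ^ (k * p ^ j) - C (c ^ p ^ j) :=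
    fun c k j => by rw [sub_pow_char_pow, ← pow_mul, C_pow]
  have hcopl : v ≠ 0 → IsCoprime (X - C (1 : F)) (X - C (-1)) := fun hv0 => by
    refine isCoprime_X_sub_C_of_isUnit_sub (IsUnit.mk0 _ (sub_ne_zero.2 fun h => hv0 (hv ?_)))
    have h2 : ((2 : ℕ) : F) = 0 := by push_cast; linear_combination h
    exact (Nat.prime_dvd_prime_iff_eq hp.out Nat.prime_two).1 ((CharP.cast_eq_zero_iff F p 2).1 h2)
  unfold expo
  split_ifs with h1 h2
  · -- one power of `X ^ L - 1` takes everything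
    refine ⟨1, one_mul 1, ?_⟩
    set j := Nat.clog p (max M (max u v))
    have hj : max M (max u v) ≤ p ^ j := le_ppow hp2 _
    rw [← one_pow (p ^ j), ← hfrob, map_one, hf']
    have hX1 : X - C (1 : F) ∣ X ^ L - 1 := by
      rw [map_one]; exact sub_one_dvd_pow_sub_one X L
    have hd1 : (X - C (1 : F)) ^ u ∣ (X ^ L - 1) ^ p ^ j :=
      (pow_dvd_pow_of_dvd hX1 u).trans (pow_dvd_pow _ (by omega))
    have hd0 : f₀ ∣ (X ^ L - 1) ^ p ^ j := hA.dvd.trans (pow_dvd_pow _ (by omega))
    rcases Nat.eq_zero_or_pos v with rfl | hv0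
    · rw [pow_zero, mul_one]
      exact ((hA.cop 1 (one_mul 1)).symm.pow_left).mul_dvd hd1 hd0
    · have hM : 1 ≤ M := h1.resolve_right (by omega)
      have hodd : Odd (Fintype.card F) := by
        obtain ⟨k, -, hk⟩ := FiniteField.card F p
        rw [hk]
        exact (hp.out.odd_of_ne_two fun h => by have := hv h; omega).pow
      have hXm : X - C (-1 : F) ∣ X ^ L - 1 := by
        obtain ⟨l, rfl⟩ := hA.even hM hodd
        refine dvd_iff_isRoot.2 ?_
        simp [IsRoot, pow_mul]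
      have hdm : (X - C (-1 : F)) ^ v ∣ (X ^ L - 1) ^ p ^ j :=
        (pow_dvd_pow_of_dvd hXm v).trans (pow_dvd_pow _ (by omega))
      refine IsCoprime.mul_dvd ?_ ((hcopl (by omega)).pow.mul_dvd hd1 hdm) hd0
      exact (hA.cop 1 (one_mul 1)).symm.pow_left.mul_left
        (hA.cop (-1) (by rw [neg_one_mul, neg_neg])).symm.pow_left
  · -- `f` is a power of `X + 1`
    push Not at h1
    obtain ⟨rfl, rfl⟩ := hA.zero (by omega)
    have hf0 : f₀ = 1 := hA.monic.natDegree_eq_zero.1 (by rw [hA.deg])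
    set j := Nat.clog p v
    refine ⟨(-1) ^ p ^ j, by rw [← mul_pow, neg_one_mul, neg_neg, one_pow], ?_⟩
    have e := hfrob (-1) 1 j
    rw [one_mul, pow_one] at e
    rw [← e, hf', hf0, h2, pow_zero, one_mul, mul_one]
    exact pow_dvd_pow _ (le_ppow hp2 v)
  · push Not at h1
    obtain ⟨rfl, rfl⟩ := hA.zero (by omega)
    have hf0 : f₀ = 1 := hA.monic.natDegree_eq_zero.1 (by rw [hA.deg])
    set j := Nat.clog p (max u v)
    have hj : max u v ≤ p ^ j := le_ppow hp2 _
    refine ⟨1, one_mul 1, ?_⟩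
    rw [← one_pow (p ^ j), ← hfrob, map_one, hf', hf0, mul_one]
    have h21 : X - C (1 : F) ∣ X ^ 2 - 1 := dvd_iff_isRoot.2 (by simp [IsRoot])
    have h22 : X - C (-1 : F) ∣ X ^ 2 - 1 := dvd_iff_isRoot.2 (by simp [IsRoot])
    exact (hcopl (by omega)).pow.mul_dvd
      ((pow_dvd_pow_of_dvd h21 u).trans (pow_dvd_pow _ ((le_max_left u v).trans (le_ppow hp2 _))))
      ((pow_dvd_pow_of_dvd h22 v).trans (pow_dvd_pow _ ((le_max_right u v).trans (le_ppow hp2 _))))

omit [Fintype F] hp [CharP F p] in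
theorem pow_eq_smul {ι : Type*} [Fintype ι] [DecidableEq ι] {A : Matrix ι ι F} {E : ℕ} {c : F}
    (h : A.charpoly ∣ X ^ E - C c) : A ^ E = c • 1 := by
  obtain ⟨w, hw⟩ := h
  have h0 := congrArg (aeval A) hw
  rwa [map_mul, Matrix.aeval_self_charpoly, zero_mul, map_sub, map_pow, aeval_X, aeval_C, sub_eq_zero,
    Algebra.algebraMap_eq_smul_one] at h0

omit [Fintype F] hp [CharP F p] in
theorem coeff_zero_charpoly {ι : Type*} [Fintype ι] [DecidableEq ι] (A : Matrix ι ι F) :
    A.charpoly.coeff 0 = (-1) ^ Fintype.card ι * A.det := by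
  rw [A.det_eq_sign_charpoly_coeff, ← mul_assoc, ← mul_pow, neg_one_mul, neg_neg, one_pow, one_mul]

/-- Exponents of elements with a self-reciprocal characteristic polynomial and determinant `1`:
dimension `2m`, or `2m+1` with `q` odd. -/
theorem exists_small_exponent {ι : Type*} [Fintype ι] [DecidableEq ι] {m : ℕ}
    (hcard : Fintype.card ι = 2 * m ∨
      (Fintype.card ι = 2 * m + 1 ∧ 3 ≤ p ∧ 3 ≤ m))
    (A : Matrix ι ι F) (hrev : A.charpoly.reverse = A.charpoly ∨
      A.charpoly.reverse = -A.charpoly) (hdet : A.det = 1) :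
    ∃ (E : ℕ) (c : F), 0 < E ∧ c * c = 1 ∧ A ^ E = c • 1 ∧
      (Fintype.card F - 1) * E ≤ Fintype.card F ^ (m + 1) := by
  classical
  have hm0 := A.charpoly_monic
  have hc := coeff_zero_charpoly A
  rw [hdet, mul_one] at hc
  have hc0 : A.charpoly.coeff 0 ≠ 0 := by rw [hc]; exact pow_ne_zero _ (neg_ne_zero.2 one_ne_zero)
  have ht : tilde (RingHom.id F) A.charpoly = A.charpoly := by
    have h1 : A.charpoly.reverse = C (A.charpoly.coeff 0) * A.charpoly := by
      rcases hrev with h | h <;>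
      · have h2 := congrArg (fun g : F[X] => g.coeff 0) h
        simp only [coeff_zero_reverse, hm0.leadingCoeff, coeff_neg] at h2
        rw [h]
        first
          | rw [← h2, map_one, one_mul]
          | rw [show A.charpoly.coeff 0 = -1 by linear_combination h2, map_neg, map_one, neg_one_mul]
    rw [tilde, srev, Polynomial.map_id, h1, RingHom.id_apply, ← mul_assoc, ← C_mul,
      inv_mul_cancel₀ hc0, map_one, one_mul]
  obtain ⟨u, v, h, h₀, M, L, hdeg, hh0, hh, hL, hL1, hv2, hM0, hcu, c, hc2, hdvd⟩ :=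
    exists_exponent (p := p) A.charpoly hm0 hc0 ht
  rw [Matrix.charpoly_natDegree_eq_dim] at hdeg
  have hp2 := hp.out.two_le
  have hpq : p ≤ Fintype.card F := char_le_card
  set q := Fintype.card F
  have hq2 : 2 ≤ q := hp2.trans hpq
  -- parities
  have hpar : p ≠ 2 → (Even u ↔ Even (Fintype.card ι)) := by
    intro hne
    have h1 : ((-1 : F)) ^ u = (-1) ^ Fintype.card ι := by rw [← hcu, hc]
    have hm1 : (-1 : F) ≠ 1 := fun h => by
      have h2 : ((2 : ℕ) : F) = 0 := by push_cast; linear_combination -h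
      exact hne ((Nat.prime_dvd_prime_iff_eq hp.out Nat.prime_two).1
        ((CharP.cast_eq_zero_iff F p 2).1 h2))
    rcases Nat.even_or_odd u with hu | hu <;>
      rcases Nat.even_or_odd (Fintype.card ι) with hi | hi <;>
      simp only [hu.neg_one_pow, hi.neg_one_pow] at h1 <;>
      first
        | exact iff_of_true hu hi
        | exact iff_of_false (Nat.not_even_iff_odd.2 hu) (Nat.not_even_iff_odd.2 hi)
        | exact absurd h1 hm1
        | exact absurd h1.symm hm1
  obtain ⟨s, t, hu, hv, hppu, hst⟩ : ∃ s t, (u = 2 * s ∨ (u = 2 * s + 1 ∧ 3 ≤ p ∧ 3 ≤ m)) ∧ v = 2 * t ∧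
      ppow p u ≤ q ^ s ∧ s + t + h = m := by
    rcases hcard with hd | ⟨hd, hp3, hm3⟩
    · have hue : Even u := by
        by_cases h2 : p = 2
        · exact ⟨m - h, by have := hv2 h2; omega⟩
        · exact (hpar h2).2 (by rw [hd]; exact even_two_mul m)
      obtain ⟨s, rfl⟩ := hue.two_dvd
      exact ⟨s, m - h - s, Or.inl rfl, by omega, ppow_two_mul hp2 hpq s, by omega⟩
    · have huo : ¬ Even u := fun hue => by
        have := (hpar (by omega)).1 hue
        rw [hd] at this
        exact Nat.not_even_two_mul_add_one m this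
      obtain ⟨s, rfl⟩ := Nat.not_even_iff_odd.1 huo
      exact ⟨s, m - h - s, Or.inr ⟨rfl, hp3, hm3⟩, by omega, ppow_two_mul_succ hp3 hpq s, by omega⟩
  have hppv : ppow p v ≤ q ^ t := by rw [hv]; exact ppow_two_mul hp2 hpq t
  refine ⟨expo p u v M L, c, ?_, hc2, pow_eq_smul hdvd, ?_⟩
  · have : ∀ N, 0 < ppow p N := fun N => pow_pos (by omega) _
    unfold expo
    split_ifs <;> positivity
  unfold expo
  split_ifs with h1 h2
  · have hmax : ppow p (max M (max u v)) ≤ q ^ max (M - 1) (max s t) := by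
      rw [ppow_max hp2, ppow_max hp2]
      exact max_le ((ppow_le_pred hp2 hpq).trans (Nat.pow_le_pow_right (by omega) (le_max_left _ _)))
        (max_le (hppu.trans (Nat.pow_le_pow_right (by omega)
          ((le_max_left _ _).trans (le_max_right _ _))))
          (hppv.trans (Nat.pow_le_pow_right (by omega) ((le_max_right _ _).trans (le_max_right _ _)))))
    calc (q - 1) * (L * ppow p (max M (max u v))) = L * (q - 1) * ppow p (max M (max u v)) := by ring
      _ ≤ q ^ (h₀ + 1) * q ^ max (M - 1) (max s t) := Nat.mul_le_mul hL.le hmax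
      _ ≤ q ^ (m + 1) := by rw [← pow_add]; exact Nat.pow_le_pow_right (by omega) (by omega)
  · calc (q - 1) * ppow p v ≤ q * q ^ t := Nat.mul_le_mul (Nat.sub_le _ _) hppv
      _ ≤ q ^ (m + 1) := by rw [← pow_succ']; exact Nat.pow_le_pow_right (by omega) (by omega)
  · push Not at h1
    obtain ⟨hh', -⟩ := hM0 (by omega)
    have hmax : ppow p (max u v) ≤ q ^ max s t := by
      rw [ppow_max hp2]
      exact max_le (hppu.trans (Nat.pow_le_pow_right (by omega) (le_max_left _ _)))
        (hppv.trans (Nat.pow_le_pow_right (by omega) (le_max_right _ _)))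
    have ht1 : 1 ≤ t := by omega
    rcases Nat.eq_zero_or_pos s with hs | hs
    · -- `-1` on all but one dimension
      rcases hu with hu | ⟨hu, hp3, hm3⟩
      · omega
      subst hs
      have hu1 : u = 1 := by omega
      have h2p : 2 * ppow p (max u v) ≤ q ^ m := by
        rw [show max u v = 2 * m by omega]
        refine le_trans ?_ (Nat.pow_le_pow_left hpq m)
        rcases Nat.lt_or_ge m 4 with hm4 | hm4
        · obtain rfl : m = 3 := by omega
          rcases Nat.lt_or_ge p 5 with hp5 | hp5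
          · obtain rfl : p = 3 := by
              rcases Nat.lt_or_ge p 4 with hp4 | hp4
              · omega
              · exfalso; exact absurd (show p = 4 by omega ▸ hp.out) (by decide)
            have : Nat.clog 3 6 ≤ 2 := Nat.clog_le_of_le_pow (by norm_num)
            calc 2 * 3 ^ Nat.clog 3 6 ≤ 2 * 3 ^ 2 := Nat.mul_le_mul le_rfl (Nat.pow_le_pow_right (by omega) this)
              _ ≤ 3 ^ 3 := by norm_num
          · calc 2 * ppow p 6 ≤ 2 * (p * (6 - 1)) := Nat.mul_le_mul le_rfl (ppow_le_mul hp2 (by omega))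
              _ = p * 10 := by ring
              _ ≤ p * (p * p) := Nat.mul_le_mul le_rfl (le_trans (by norm_num) (Nat.mul_le_mul hp5 hp5))
              _ = p ^ 3 := by ring
        · have h3 : ∀ k, 3 ≤ k → 2 * (2 * (k + 1) - 1) ≤ 3 ^ k := fun k hk => by
            induction k, hk using Nat.le_induction with
            | base => norm_num
            | succ k hk ih => rw [pow_succ]; omega
          calc 2 * ppow p (2 * m) ≤ 2 * (p * (2 * m - 1)) :=
                Nat.mul_le_mul le_rfl (ppow_le_mul hp2 (by omega))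
            _ = p * (2 * (2 * m - 1)) := by ring
            _ ≤ p * p ^ (m - 1) := by
                refine Nat.mul_le_mul le_rfl ?_
                have := h3 (m - 1) (by omega)
                rw [Nat.sub_add_cancel (show 1 ≤ m by omega)] at this
                exact this.trans (Nat.pow_le_pow_left hp3 _)
            _ = p ^ m := by rw [← pow_succ', Nat.sub_add_cancel (show 1 ≤ m by omega)]
      calc (q - 1) * (2 * ppow p (max u v)) ≤ q * q ^ m := Nat.mul_le_mul (Nat.sub_le _ _) h2p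
        _ = q ^ (m + 1) := by rw [pow_succ']
    · calc (q - 1) * (2 * ppow p (max u v)) ≤ q * (q ^ 1 * q ^ max s t) :=
            Nat.mul_le_mul (Nat.sub_le _ _) (Nat.mul_le_mul (by rw [pow_one]; exact hq2) hmax)
        _ ≤ q ^ (m + 1) := by
            rw [← pow_add, ← pow_succ']; exact Nat.pow_le_pow_right (by omega) (by omega)

end CfsgLib.KnownA.RecipOrder
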