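import Cfsg.Agent.Lib.KnownA.RecipOrder.Bound

/-!
A conjugate-reciprocal polynomial of degree `d` over the field of `q₀²` elements divides some
`X ^ E - c` with `E ≤ q₀ ^ d + q₀ ^ (d - 2)`.
-/

set_option autoImplicit false

namespace CfsgLib.KnownA.RecipOrder

open Polynomial CfsgLib.Classical.SemiPalin

variable {F : Type*} [Field F]

omit [Field F] in
theorem merge_le {q a k : ℕ} (hq : 2 ≤ q) (ha : 1 ≤ a) (hk : 1 ≤ k) :
    (q ^ k + 1) * (q ^ a + 1) ≤ (q + 1) * (q ^ (k + a) + 1) := by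
  rw [pow_add]
  have key : ∀ x y : ℕ, 2 ≤ x → 2 ≤ y → (x + 1) * (y + 1) ≤ (q + 1) * (x * y + 1) := fun x y hx hy =>
    calc (x + 1) * (y + 1) ≤ 2 * (x * y + 1) := by nlinarith
      _ ≤ (q + 1) * (x * y + 1) := Nat.mul_le_mul_right _ (by omega)
  exact key _ _ (hq.trans (Nat.le_self_pow (by omega) q)) (hq.trans (Nat.le_self_pow (by omega) q))

/-- What is carried by the induction: a squarefree `R` with `f ∣ R ^ M`, and an exponent for `R`. -/
structure HermData (q₀ : ℕ) (σ : F →+* F) (f : F[X]) (R : F[X]) (M L : ℕ) : Prop where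
  monic : R.Monic
  inv : tilde σ R = R
  pos : 1 ≤ R.natDegree
  dvd : f ∣ R ^ M
  deg : R.natDegree + (M - 1) ≤ f.natDegree
  hM : 1 ≤ M
  expo : R ∣ X ^ L - 1
  small : L ≤ q₀ ^ R.natDegree + 1
  base : q₀ + 1 ∣ L
  lpos : 1 ≤ L

variable [Fintype F] {p r q₀ : ℕ} [hp : Fact p.Prime] [CharP F p]

theorem exists_hermData (hr : q₀ = p ^ r) (hq : Fintype.card F = q₀ ^ 2) (σ : F →+* F)
    (hσ : ∀ x, σ x = x ^ q₀) (f : F[X]) (hf : f.Monic) (h0 : f.coeff 0 ≠ 0) (ht : tilde σ f = f)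
    (hd : 1 ≤ f.natDegree) : ∃ R M L, HermData q₀ σ f R M L := by
  have hq2 : 2 ≤ q₀ := by
    have h := Fintype.one_lt_card (α := F)
    rw [hq] at h
    rcases Nat.lt_or_ge q₀ 2 with hlt | hge
    · exfalso
      interval_cases q₀ <;> simp at h
    · exact hge
  have hσσ : ∀ x, σ (σ x) = x := fun x => by
    rw [hσ, hσ, ← pow_mul, ← sq, ← hq, FiniteField.pow_card]
  induction hn : f.natDegree using Nat.strong_induction_on generalizing f with
  | _ n ih =>
    obtain ⟨a, b, ham, hbm, rfl, had, hat, hbt, hcase⟩ := exists_piece σ hσσ hf h0 ht (by omega)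
    rw [mul_coeff_zero, mul_ne_zero_iff] at h0
    -- the weight of the piece
    obtain ⟨w, hw, hwb, hwl, hdich⟩ : ∃ w, a ∣ X ^ w - 1 ∧ q₀ + 1 ∣ w ∧
        (1 ≤ w ∧ w ≤ q₀ ^ a.natDegree + 1) ∧
        ∀ R : F[X], tilde σ R = R → a ∣ R ∨ IsCoprime a R := by
      rcases hcase with hirr | ⟨P, hP, hPm, hP0, hne, hPa⟩
      · obtain ⟨hodd, hdv⟩ := herm_case hr hq σ hσ hirr h0.1 hat
        refine ⟨_, hdv, ?_, ⟨by omega, le_rfl⟩, fun R _ => ?_⟩
        · have := hodd.nat_add_dvd_pow_add_pow q₀ 1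
          rwa [one_pow] at this
        · exact (em _).imp id fun h => hirr.coprime_iff_not_dvd.2 h
      · obtain ⟨hQm, hQd, hQc⟩ := tilde_facts σ hPm hP0
        have hQ := tilde_irreducible σ hσσ hPm hP0 hP
        have hcop : IsCoprime P (tilde σ P) := hP.coprime_iff_not_dvd.2 fun h =>
          hne (eq_of_monic_of_associated hPm hQm (hP.associated_of_dvd hQ h)).symm
        have hdeg : a.natDegree = 2 * P.natDegree := by
          rw [hPa, hPm.natDegree_mul hQm, hQd]; ring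
        have h1 := dvd_pow_sub_one hP hP0
        have h2 := dvd_pow_sub_one hQ (by rw [hQc]; exact inv_ne_zero ((map_ne_zero σ).2 hP0))
        rw [hQd] at h2
        refine ⟨Fintype.card F ^ P.natDegree - 1, hPa ▸ hcop.mul_dvd h1 h2, ?_, ⟨?_, ?_⟩, fun R hR => ?_⟩
        · have hb : q₀ + 1 ∣ q₀ ^ 2 - 1 := ⟨q₀ - 1, by
            zify [Nat.one_le_pow 2 q₀ (by omega), show 1 ≤ q₀ by omega]; ring⟩
          rw [hq]
          refine hb.trans ?_
          simpa using Nat.sub_dvd_pow_sub_pow (q₀ ^ 2) 1 P.natDegree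
        · have : 2 ≤ Fintype.card F ^ P.natDegree :=
            (Fintype.one_lt_card (α := F)).trans_le (Nat.le_self_pow hP.natDegree_pos.ne' _)
          omega
        · rw [hdeg, hq, ← pow_mul]; omega
        · by_cases hd : P ∣ R
          · left
            obtain ⟨T, hT⟩ := hd
            rw [hPa]
            exact hcop.mul_dvd ⟨T, hT⟩ ⟨tilde σ T, by rw [← tilde_mul, ← hT, hR]⟩
          · right
            rw [hPa]
            refine (hP.coprime_iff_not_dvd.2 hd).mul_left (hQ.coprime_iff_not_dvd.2 fun ⟨T, hT⟩ => hd ?_)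
            exact ⟨tilde σ T, by rw [← hR, hT, tilde_mul, tilde_tilde σ hσσ hPm hP0]⟩
    have hdegab : (a * b).natDegree = a.natDegree + b.natDegree := ham.natDegree_mul hbm
    rcases Nat.eq_zero_or_pos b.natDegree with hb0 | hbpos
    · have hb1 : b = 1 := hbm.natDegree_eq_zero.1 hb0
      exact ⟨a, 1, w, ham, hat, had, by rw [hb1, mul_one, pow_one],
        by rw [hdegab]; omega, le_rfl, hw, hwl.2, hwb, hwl.1⟩
    obtain ⟨R, M, L, hR⟩ := ih b.natDegree (by rw [← hn, hdegab]; omega) b hbm h0.2 hbt hbpos rfl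
    have hdR := hR.deg
    rcases hdich R hR.inv with hdvd | hcop
    · refine ⟨R, M + 1, L, hR.monic, hR.inv, hR.pos, ?_, ?_, by omega, hR.expo, hR.small, hR.base,
        hR.lpos⟩
      · rw [pow_succ']; exact mul_dvd_mul hdvd hR.dvd
      · rw [hdegab]; have := hR.hM; omega
    · obtain ⟨l, hl⟩ := hwb
      refine ⟨a * R, M, L * l, ham.mul hR.monic, by rw [tilde_mul, hat, hR.inv], ?_, ?_, ?_, hR.hM, ?_,
        ?_, hR.base.mul_right l, ?_⟩
      · rw [ham.natDegree_mul hR.monic]; omega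
      · rw [mul_pow]
        exact mul_dvd_mul (dvd_pow_self a (by have := hR.hM; omega)) hR.dvd
      · rw [ham.natDegree_mul hR.monic, hdegab]; omega
      · obtain ⟨k, hk⟩ := hR.base
        refine hcop.mul_dvd (hw.trans ?_) (hR.expo.trans ?_)
        · rw [show L * l = w * k by rw [hk, hl]; ring, pow_mul]
          exact sub_one_dvd_pow_sub_one _ _
        · rw [pow_mul]; exact sub_one_dvd_pow_sub_one _ _
      · refine Nat.le_of_mul_le_mul_left ?_ (show 0 < q₀ + 1 by omega)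
        calc (q₀ + 1) * (L * l) = L * w := by rw [hl]; ring
          _ ≤ (q₀ ^ R.natDegree + 1) * (q₀ ^ a.natDegree + 1) := Nat.mul_le_mul hR.small hwl.2
          _ ≤ (q₀ + 1) * (q₀ ^ (R.natDegree + a.natDegree) + 1) := merge_le hq2 had hR.pos
          _ = _ := by rw [ham.natDegree_mul hR.monic, add_comm R.natDegree]
      · refine Nat.one_le_iff_ne_zero.2 (Nat.mul_ne_zero (by have := hR.lpos; omega) fun h => ?_)
        rw [h, mul_zero] at hl
        omega

/-- The exponent. -/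
theorem exists_exponent_herm (hr : q₀ = p ^ r) (hr1 : 1 ≤ r) (hq : Fintype.card F = q₀ ^ 2)
    (σ : F →+* F) (hσ : ∀ x, σ x = x ^ q₀) (f : F[X]) (hf : f.Monic) (h0 : f.coeff 0 ≠ 0)
    (ht : tilde σ f = f) {d : ℕ} (hd : f.natDegree = d) (hd2 : 2 ≤ d) :
    ∃ (E : ℕ) (c : F), 0 < E ∧ E ≤ q₀ ^ d + q₀ ^ (d - 2) ∧ f ∣ X ^ E - C c := by
  obtain ⟨R, M, L, hR⟩ := exists_hermData (p := p) hr hq σ hσ f hf h0 ht (by omega)
  have hpq : p ≤ q₀ := hr ▸ Nat.le_self_pow (by omega) p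
  have hq2 : 2 ≤ q₀ := hp.out.two_le.trans hpq
  have hpj : ppow p M ≤ q₀ ^ (M - 1) := ppow_le_pred hp.out.two_le hpq
  have hdeg := hR.deg
  rw [hd] at hdeg
  have hfrob : ∀ (c : F) (k j : ℕ), ((X : F[X]) ^ k - C c) ^ p ^ j = X ^ (k * p ^ j) - C (c ^ p ^ j) :=
    fun c k j => by rw [sub_pow_char_pow, ← pow_mul, C_pow]
  have hdv : f ∣ R ^ p ^ Nat.clog p M :=
    hR.dvd.trans (pow_dvd_pow _ (le_ppow hp.out.two_le M))
  rcases Nat.lt_or_ge R.natDegree 2 with hk | hk
  · have hk1 : R.natDegree = 1 := by have := hR.pos; omega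
    refine ⟨ppow p M, (-R.coeff 0) ^ p ^ Nat.clog p M, pow_pos hp.out.pos _, ?_, ?_⟩
    · refine hpj.trans (le_trans ?_ (Nat.le_add_right _ _))
      exact Nat.pow_le_pow_right (by omega) (by omega)
    · have e := hfrob (-R.coeff 0) 1 (Nat.clog p M)
      rw [one_mul, pow_one] at e
      rwa [← e, map_neg, sub_neg_eq_add, ← hR.monic.eq_X_add_C hk1]
  · refine ⟨L * ppow p M, 1, Nat.mul_pos hR.lpos (pow_pos hp.out.pos _), ?_, ?_⟩
    · calc L * ppow p M ≤ (q₀ ^ R.natDegree + 1) * q₀ ^ (M - 1) := Nat.mul_le_mul hR.small hpj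
        _ = q₀ ^ (R.natDegree + (M - 1)) + q₀ ^ (M - 1) := by rw [pow_add]; ring
        _ ≤ q₀ ^ d + q₀ ^ (d - 2) := Nat.add_le_add (Nat.pow_le_pow_right (by omega) hdeg)
            (Nat.pow_le_pow_right (by omega) (by omega))
    · rw [← one_pow (p ^ Nat.clog p M), ← hfrob, map_one]
      exact hdv.trans (pow_dvd_pow_of_dvd hR.expo _)

end CfsgLib.KnownA.RecipOrder
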