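import Cfsg.Agent.Lib.KnownA.RecipOrder.Herm
import Cfsg.Agent.Lib.KnownC.AutPSLField
import Cfsg.Agent.Lib.Classical.SemiUnitaryExists

/-!
The greatest element order of `Aut (PSL_d(q))` is at most `(q^d - 1) / (q - 1)`.
-/

set_option autoImplicit false
set_option maxHeartbeats 800000

namespace CfsgLib.KnownA.RecipOrder

open Polynomial CfsgLib.Classical.SemiPalin CfsgLib.KnownC
open Matrix (GeneralLinearGroup)

/-- `1 + q + ⋯ + q ^ (d - 1)`. -/
abbrev geomS (q d : ℕ) : ℕ := ∑ i ∈ Finset.range d, q ^ i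

theorem geomS_succ' (q d : ℕ) : geomS q (d + 1) = q * geomS q d + 1 := by
  rw [geomS, Finset.sum_range_succ', pow_zero, Finset.mul_sum]
  simp [pow_succ']

theorem geomS_mul {q : ℕ} (hq : 1 ≤ q) (d : ℕ) : geomS q d * (q - 1) + 1 = q ^ d := by
  induction d with
  | zero => simp
  | succ d ih =>
    rw [geomS_succ', add_mul, one_mul, mul_assoc, pow_succ', ← ih, mul_add, mul_one]
    omega

theorem le_geomS {q : ℕ} (hq : 2 ≤ q) {d j : ℕ} (h : j * (q - 1) ≤ q ^ d - 1) : j ≤ geomS q d := by
  refine Nat.le_of_mul_le_mul_right ?_ (show 0 < q - 1 by omega)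
  rwa [← geomS_mul (q := q) (by omega) d, Nat.add_sub_cancel] at h

theorem mul_le_pow_self {x : ℕ} (hx : 2 ≤ x) : ∀ {e : ℕ}, e * x ≤ x ^ e := by
  intro e
  rcases Nat.eq_zero_or_pos e with rfl | he
  · simp
  obtain ⟨k, rfl⟩ : ∃ k, e = k + 1 := ⟨e - 1, by omega⟩
  rw [pow_succ]
  exact Nat.mul_le_mul ((succ_le_two_pow k).trans (Nat.pow_le_pow_left hx k)) le_rfl

theorem add_le_pow_self {x e : ℕ} (hx : 2 ≤ x) (h : 3 ≤ x ∨ 3 ≤ e ∨ e ≤ 1) (he : 1 ≤ e) :
    e * x + (e - 1) ≤ x ^ e := by
  rcases Nat.lt_or_ge e 2 with h1 | h2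
  · obtain rfl : e = 1 := by omega
    simp
  rcases Nat.lt_or_ge x 3 with hx3 | hx3
  · obtain rfl : x = 2 := by omega
    have he3 : 3 ≤ e := by omega
    clear h2 he h
    induction e, he3 using Nat.le_induction with
    | base => norm_num
    | succ k hk ih => rw [pow_succ]; omega
  · obtain ⟨k, rfl⟩ : ∃ k, e = k + 2 := ⟨e - 2, by omega⟩
    have h3 : ∀ k, 2 * k + 3 ≤ 3 ^ (k + 1) := fun k => by
      induction k with
      | zero => simp
      | succ k ih => rw [pow_succ]; omega
    calc (k + 2) * x + (k + 2 - 1) ≤ (2 * k + 3) * x := by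
          rw [show k + 2 - 1 = k + 1 by omega, show (2 * k + 3) * x = (k + 2) * x + (k + 1) * x by ring]
          exact Nat.add_le_add_left (Nat.le_mul_of_pos_right _ (by omega)) _
      _ ≤ x ^ (k + 1) * x := Nat.mul_le_mul ((h3 k).trans (Nat.pow_le_pow_left hx3 _)) le_rfl
      _ = x ^ (k + 2) := by rw [← pow_succ]

theorem scale_geomS {q e d : ℕ} (hq : 2 ≤ q) (hd : 2 ≤ d) (he : 1 ≤ e)
    (h : 3 ≤ d ∨ 3 ≤ q ∨ 3 ≤ e ∨ e ≤ 1) : e * geomS q d ≤ geomS (q ^ e) d := by
  obtain ⟨k, rfl⟩ : ∃ k, d = k + 2 := ⟨d - 2, by omega⟩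
  have key : ∀ y : ℕ, geomS y (k + 2) = (∑ i ∈ Finset.range k, y ^ (i + 1)) + 1 + y ^ (k + 1) :=
    fun y => by rw [geomS, Finset.sum_range_succ, Finset.sum_range_succ', pow_zero]
  rw [key, key, mul_add, mul_add, mul_one, Finset.mul_sum]
  have hx : 2 ≤ q ^ (k + 1) := hq.trans (Nat.le_self_pow (by omega) q)
  have hx' : 3 ≤ q ^ (k + 1) ∨ 3 ≤ e ∨ e ≤ 1 := by
    rcases h with h | h | h
    · left
      calc 3 ≤ 2 ^ 2 := by norm_num
        _ ≤ q ^ (k + 1) := (Nat.pow_le_pow_left hq 2).trans (Nat.pow_le_pow_right (by omega) (by omega))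
    · left; exact h.trans (Nat.le_self_pow (by omega) q)
    · exact Or.inr h
  have h1 := add_le_pow_self hx hx' he
  have h2 : ∑ i ∈ Finset.range k, e * q ^ (i + 1) ≤ ∑ i ∈ Finset.range k, (q ^ e) ^ (i + 1) :=
    Finset.sum_le_sum fun i _ => by
      rw [← pow_mul, mul_comm e (i + 1), pow_mul]
      exact mul_le_pow_self (hq.trans (Nat.le_self_pow (by omega) q))
  have e1 : (q ^ e) ^ (k + 1) = (q ^ (k + 1)) ^ e := by rw [← pow_mul, ← pow_mul, mul_comm]
  omega

variable {K : Type*} [Field K] [Fintype K]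

/-- Projective order in the algebra generated by a root. -/
theorem linear_exponent (f : K[X]) (hf : f.Monic) (h0 : f.coeff 0 ≠ 0) {d : ℕ}
    (hd : f.natDegree = d) (hd1 : 1 ≤ d) :
    ∃ (j : ℕ) (c : K), 0 < j ∧ f ∣ X ^ j - C c ∧
      j * (Fintype.card K - 1) ≤ Fintype.card K ^ d - 1 := by
  classical
  let A := AdjoinRoot f
  have hf0 : f ≠ 0 := hf.ne_zero
  haveI : Module.Finite K A := (AdjoinRoot.powerBasis hf0).finite
  haveI : Finite A := Module.finite_of_finite K
  have hcard : Nat.card A = Fintype.card K ^ d := by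
    rw [Module.natCard_eq_pow_finrank (K := K), (AdjoinRoot.powerBasis hf0).finrank,
      AdjoinRoot.powerBasis_dim, hd, Nat.card_eq_fintype_card]
  haveI : Nontrivial A := AdjoinRoot.nontrivial f (by
    rw [degree_eq_natDegree hf0, hd]; exact_mod_cast (show d ≠ 0 by omega))
  have hu : IsUnit (AdjoinRoot.root f) := by
    refine IsUnit.of_mul_eq_one (-(algebraMap K A (f.coeff 0)⁻¹) * aeval (AdjoinRoot.root f) f.divX) ?_
    have h1 : aeval (AdjoinRoot.root f) f = 0 := by rw [AdjoinRoot.aeval_eq, AdjoinRoot.mk_self]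
    conv at h1 => lhs; arg 2; rw [← X_mul_divX_add f]
    rw [map_add, map_mul, aeval_X, aeval_C] at h1
    have h2 : algebraMap K A (f.coeff 0)⁻¹ * algebraMap K A (f.coeff 0) = 1 := by
      rw [← map_mul, inv_mul_cancel₀ h0, map_one]
    linear_combination h2 - algebraMap K A (f.coeff 0)⁻¹ * h1
  set S : Subgroup Aˣ := (Units.map (algebraMap K A).toMonoidHom).range
  have hS : Nat.card S = Fintype.card K - 1 := by
    rw [← Fintype.card_units, ← Nat.card_eq_fintype_card]
    exact (Nat.card_congr (MonoidHom.ofInjective (f := Units.map (algebraMap K A).toMonoidHom)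
      (Units.map_injective (algebraMap K A).injective)).toEquiv).symm
  obtain ⟨c, hc⟩ : ∃ c : Kˣ, Units.map (algebraMap K A).toMonoidHom c =
      hu.unit ^ orderOf (QuotientGroup.mk hu.unit : Aˣ ⧸ S) := by
    have h := (QuotientGroup.eq_one_iff (N := S) (hu.unit ^ orderOf (QuotientGroup.mk hu.unit : Aˣ ⧸ S))).1
      (by rw [QuotientGroup.mk_pow, pow_orderOf_eq_one])
    exact h
  refine ⟨orderOf (QuotientGroup.mk hu.unit : Aˣ ⧸ S), c,
    (isOfFinOrder_of_finite (QuotientGroup.mk hu.unit : Aˣ ⧸ S)).orderOf_pos, ?_, ?_⟩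
  · rw [← AdjoinRoot.mk_eq_zero, map_sub, map_pow, AdjoinRoot.mk_X, AdjoinRoot.mk_C, sub_eq_zero]
    have h := congrArg Units.val hc
    rw [Units.val_pow_eq_pow_val, IsUnit.unit_spec] at h
    exact h.symm
  · have h1 : Nat.card Aˣ ≤ Fintype.card K ^ d - 1 := by
      letI : Fintype A := Fintype.ofFinite A
      have hle : Fintype.card Aˣ ≤ ((Finset.univ : Finset A).erase 0).card := by
        refine Finset.card_le_card_of_injOn (fun u : Aˣ => (u : A))
          (fun u _ => Finset.mem_erase.2 ⟨u.ne_zero, Finset.mem_univ _⟩)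
          (fun u _ v _ h => Units.ext h)
      rw [Finset.card_erase_of_mem (Finset.mem_univ _), Finset.card_univ] at hle
      rwa [Nat.card_eq_fintype_card, ← hcard, Nat.card_eq_fintype_card]
    refine le_trans ?_ h1
    rw [Subgroup.card_eq_card_quotient_mul_card_subgroup S, hS]
    exact Nat.mul_le_mul_right _ (Nat.le_of_dvd Nat.card_pos (orderOf_dvd_natCard _))

/-- Self-reciprocal exponents, for the doubled bound. -/
theorem orth_exponent {p : ℕ} [hp : Fact p.Prime] [CharP K p] (f : K[X]) (hf : f.Monic)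
    (h0 : f.coeff 0 ≠ 0) (ht : tilde (RingHom.id K) f = f) {d : ℕ} (hd : f.natDegree = d)
    (hd3 : 3 ≤ d) :
    ∃ (E : ℕ) (c : K), 0 < E ∧ f ∣ X ^ E - C c ∧
      (Fintype.card K = 2 ∧ d = 3 → E ≤ 4) ∧
      (¬ (Fintype.card K = 2 ∧ d = 3) → 2 * E ≤ geomS (Fintype.card K) d) := by
  obtain ⟨u, v, h, h₀, M, L, hdeg, hh0, hh, hL, hL1, hv2, hM0, -, c, -, hdvd⟩ :=
    exists_exponent (p := p) f hf h0 ht
  rw [hd] at hdeg
  have hp2 := hp.out.two_le
  have hpq : p ≤ Fintype.card K := char_le_card
  have hp2q : Fintype.card K = 2 → p = 2 := fun h => by omega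
  set q := Fintype.card K
  have hq2 : 2 ≤ q := hp2.trans hpq
  have hpos : ∀ N, 0 < ppow p N := fun N => pow_pos (by omega) _
  refine ⟨expo p u v M L, c, ?_, hdvd, ?_, ?_⟩
  · unfold expo
    split_ifs <;> have := hpos (max M (max u v)) <;> have := hpos v <;> have := hpos (max u v) <;>
      positivity
  · rintro ⟨hq, hd'⟩
    obtain rfl := hp2q hq
    obtain rfl := hv2 rfl
    rw [expo, if_pos (Or.inr rfl)]
    have hh1 : h ≤ 1 := by omega
    have hc4 : ∀ N, N ≤ 4 → ppow 2 N ≤ 4 := fun N hN =>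
      (ppow_mono le_rfl hN).trans (Nat.pow_le_pow_right (n := 2) (by omega)
        (Nat.clog_le_of_le_pow (b := 2) (x := 4) (y := 2) le_rfl))
    rw [hq] at hL
    rcases Nat.eq_zero_or_pos h₀ with h00 | h01
    · rw [h00] at hL
      have : L = 1 := by norm_num at hL; omega
      rw [this, one_mul]
      exact hc4 _ (by omega)
    · have : h₀ = 1 := by omega
      rw [this] at hL
      have hN : max M (max u 0) ≤ 1 := by omega
      rw [ppow_le_one hN, mul_one]
      norm_num at hL
      omega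
  · intro hne
    rcases Nat.eq_zero_or_pos h with hh' | hh'
    · -- only `±1`
      obtain ⟨n', hn'⟩ : ∃ n', n' = (d + 1) / 2 := ⟨_, rfl⟩
      have hL1' : L = 1 := by
        have h00 : h₀ = 0 := by omega
        rw [h00, pow_one] at hL
        have : L * (q - 1) < 2 * (q - 1) := by omega
        have := Nat.lt_of_mul_lt_mul_right this
        omega
      have hN : ∀ N, N ≤ d → ppow p N ≤ q ^ n' := fun N hN =>
        (ppow_mono hp2 (show N ≤ 2 * n' by omega)).trans (ppow_two_mul hp2 hpq n')
      have hE : expo p u v M L ≤ (if p = 2 then 1 else 2) * ppow p d := by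
        have h1c : 1 ≤ if p = 2 then 1 else 2 := by split_ifs <;> omega
        rw [expo]
        by_cases ha : 1 ≤ M ∨ v = 0
        · rw [if_pos ha, hL1']
          exact Nat.mul_le_mul h1c (ppow_mono hp2 (by omega))
        rw [if_neg ha]
        by_cases hb : u = 0
        · rw [if_pos hb]
          exact (ppow_mono hp2 (by omega)).trans (Nat.le_mul_of_pos_left _ h1c)
        rw [if_neg hb, if_neg (fun h2 : p = 2 => ha (Or.inr (hv2 h2)))]
        exact Nat.mul_le_mul le_rfl (ppow_mono hp2 (by omega))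
      refine le_trans (Nat.mul_le_mul le_rfl hE) ?_
      rcases Nat.lt_or_ge d 4 with hd4 | hd4
      · obtain rfl : d = 3 := by omega
        have hS : geomS q 3 = 1 + q + q * q := by
          simp only [geomS, Finset.sum_range_succ, Finset.sum_range_zero, pow_zero, pow_one, sq]; ring
        rw [hS]
        rcases Nat.lt_or_ge p 3 with hp3 | hp3
        · obtain rfl : p = 2 := by omega
          rw [if_pos rfl]
          have h8 : ppow 2 3 ≤ 4 := Nat.pow_le_pow_right (n := 2) (by omega)
            (Nat.clog_le_of_le_pow (b := 2) (x := 3) (y := 2) (by norm_num))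
          have hq4 : 3 ≤ q := by
            rcases Nat.lt_or_ge q 3 with h | h
            · exact absurd ⟨by omega, rfl⟩ hne
            · exact h
          nlinarith
        · rw [if_neg (by omega)]
          have h3p : ppow p 3 ≤ q := by
            refine le_trans ?_ hpq
            conv_rhs => rw [← pow_one p]
            exact Nat.pow_le_pow_right (by omega) (Nat.clog_le_of_le_pow (by rw [pow_one]; exact hp3))
          nlinarith
      · have hpd := hN d le_rfl
        have hn2 : q ^ n' ≤ q ^ (d - 2) := Nat.pow_le_pow_right (by omega) (by omega)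
        obtain ⟨k, rfl⟩ : ∃ k, d = k + 2 := ⟨d - 2, by omega⟩
        have hS : q ^ (k + 1) + q ^ k ≤ geomS q (k + 2) := by
          rw [geomS, Finset.sum_range_succ, Finset.sum_range_succ]; omega
        refine le_trans ?_ hS
        rw [Nat.add_sub_cancel] at hn2
        rw [pow_succ']
        have hpk := hpd.trans hn2
        split_ifs with h3
        · have := Nat.mul_le_mul hq2 hpk
          omega
        · have h3q : 3 ≤ q := by omega
          have := Nat.mul_le_mul h3q hpk
          omega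
    · -- a proper part away from `±1`
      have hM1 : 1 ≤ M := by
        by_contra hM
        obtain ⟨h', -⟩ := hM0 (by omega)
        omega
      rw [expo, if_pos (Or.inl hM1)]
      set e := max (M - 1) (max (u - 1) (v - 1))
      have hmax : ppow p (max M (max u v)) ≤ q ^ e := by
        refine (ppow_le_pred hp2 hpq).trans (Nat.pow_le_pow_right (by omega) ?_)
        omega
      have hle : (L * ppow p (max M (max u v))) * (q - 1) ≤ q ^ (d - 1) - 1 := by
        have h1 : (L * ppow p (max M (max u v))) * (q - 1) < q ^ (d - 1) := by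
          calc (L * ppow p (max M (max u v))) * (q - 1) = (L * (q - 1)) * ppow p (max M (max u v)) := by
                ring
            _ < q ^ (h₀ + 1) * ppow p (max M (max u v)) := Nat.mul_lt_mul_of_pos_right hL (hpos _)
            _ ≤ q ^ (h₀ + 1) * q ^ e := Nat.mul_le_mul le_rfl hmax
            _ ≤ q ^ (d - 1) := by
                rw [← pow_add]; exact Nat.pow_le_pow_right (by omega) (by omega)
        omega
      calc 2 * (L * ppow p (max M (max u v))) ≤ 2 * geomS q (d - 1) :=
            Nat.mul_le_mul le_rfl (le_geomS hq2 hle)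
        _ ≤ q * geomS q (d - 1) + 1 := (Nat.mul_le_mul hq2 le_rfl).trans (Nat.le_succ _)
        _ = geomS q d := by rw [← geomS_succ', Nat.sub_add_cancel (show 1 ≤ d by omega)]

end CfsgLib.KnownA.RecipOrder
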