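import Cfsg.Agent.Lib.KnownA.RecipOrder.AutPSL

/-!
Upper bound for the order of an automorphism of `PSL_d(q)`.
-/

set_option autoImplicit false
set_option maxHeartbeats 800000

namespace CfsgLib.KnownA.RecipOrder

open Polynomial CfsgLib.Classical.SemiPalin CfsgLib.KnownC
open Matrix (GeneralLinearGroup)

variable {F : Type*} [Field F] {d : ℕ}

/-- A multiple of the minimal polynomial of the form `X ^ j - c` makes a power central. -/
theorem pow_mem_center {K : Type*} [Field K] (ι : K →+* F) (h : GL (Fin d) F) (f : K[X])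
    (hf : f.map ι = h.1.charpoly) {j : ℕ} {c : K} (hdvd : f ∣ X ^ j - C c) :
    h ^ j ∈ Subgroup.center (GL (Fin d) F) := by
  have h1 : h.1.charpoly ∣ X ^ j - C (ι c) := by
    have := Polynomial.map_dvd ι hdvd
    rwa [hf, Polynomial.map_sub, Polynomial.map_pow, map_X, map_C] at this
  have h2 : aeval h.1 (X ^ j - C (ι c)) = 0 := by
    obtain ⟨t, ht⟩ := h1
    rw [ht, map_mul, Matrix.aeval_self_charpoly, zero_mul]
  rw [map_sub, map_pow, aeval_X, aeval_C, sub_eq_zero] at h2
  refine Subgroup.mem_center_iff.2 fun x => Units.ext ?_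
  rw [Units.val_mul, Units.val_mul, Units.val_pow_eq_pow_val, h2]
  exact (Algebra.commutes _ _).symm

theorem charpoly_conj_fixed (σ : F ≃+* F) {g h : GL (Fin d) F}
    (e : g * GeneralLinearGroup.map (σ : F →+* F) h = h * g) :
    h.1.charpoly.map (σ : F →+* F) = h.1.charpoly := by
  rw [← Matrix.charpoly_map]
  have e1 : GeneralLinearGroup.map (σ : F →+* F) h = g⁻¹ * h * g := by
    rw [mul_assoc, eq_inv_mul_iff_mul_eq, e]
  have e2 := congrArg Units.val e1
  rw [Units.val_mul, Units.val_mul, Matrix.coe_units_inv] at e2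
  show (GeneralLinearGroup.map (σ : F →+* F) h).1.charpoly = _
  rw [e2, Matrix.charpoly_units_conj']

/-- The fixed field of `σ`. -/
abbrev fixField (σ : F ≃+* F) : Subfield F := (σ : F →+* F).eqLocusField (RingHom.id F)

theorem mem_fixField {σ : F ≃+* F} {x : F} : x ∈ fixField σ ↔ σ x = x := Iff.rfl

theorem card_fixField [Fintype F] (σ : F ≃+* F) [Fintype (fixField σ)] {p f : ℕ} [Fact p.Prime]
    (hF : Fintype.card F = p ^ f) :
    orderOf σ ∣ f ∧ Fintype.card (fixField σ) = p ^ (f / orderOf σ) := by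
  obtain ⟨h1, h2, -⟩ := exists_fixed_embedding.{_, 0} σ hF
  refine ⟨h1, ?_⟩
  rw [← h2, ← Nat.card_eq_fintype_card]
  exact Nat.card_congr (Equiv.subtypeEquivRight fun x => mem_fixField)

/-- Descent of a monic polynomial with fixed coefficients. -/
theorem exists_descent_poly (σ : F ≃+* F) {P : F[X]} (hP : P.Monic)
    (h : P.map (σ : F →+* F) = P) :
    ∃ f : (fixField σ)[X], f.map (fixField σ).subtype = P ∧ f.Monic ∧ f.natDegree = P.natDegree := by
  have hl : P ∈ lifts (fixField σ).subtype := (lifts_iff_coeff_lifts P).2 fun i =>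
    ⟨⟨P.coeff i, mem_fixField.2 (by
      conv_rhs => rw [← h, coeff_map]
      rfl)⟩, rfl⟩
  obtain ⟨f, hf, hdeg, hm⟩ := lifts_and_degree_eq_and_monic hl hP
  exact ⟨f, hf, hm, natDegree_eq_of_degree_eq hdeg⟩

theorem coeff_zero_descent {K : Type*} [Field K] (ι : K →+* F) (h : GL (Fin d) F) {f : K[X]}
    (hf : f.map ι = h.1.charpoly) : f.coeff 0 ≠ 0 := fun h0 => by
  refine CfsgLib.Classical.SemiUnitaryExists.coeff_zero_ne_zero h ?_
  rw [← hf, coeff_map, h0, map_zero]

theorem semiAut_refl_pow_eq_one (hd : 2 ≤ d) {h : GL (Fin d) F} {j : ℕ}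
    (hj : h ^ j ∈ Subgroup.center (GL (Fin d) F)) : semiAut h (RingEquiv.refl F) ^ j = 1 := by
  rw [← inndiagHom_apply, ← map_pow, inndiagHom_apply, semiAut_eq_one_iff hd]
  exact ⟨rfl, hj⟩

/-- The bound on the coset of a field automorphism. -/
theorem orderOf_semiAut_le [Fintype F] (hd : 2 ≤ d) (h2 : d = 2 → 5 ≤ Fintype.card F)
    (g : GL (Fin d) F) (σ : F ≃+* F) : orderOf (semiAut g σ) ≤ geomS (Fintype.card F) d := by
  classical
  obtain ⟨p, hp⟩ := CharP.exists F
  obtain ⟨⟨f₀, hf₀⟩, hpr, hF⟩ := FiniteField.card F p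
  haveI : Fact p.Prime := ⟨hpr⟩
  obtain ⟨e, he⟩ : ∃ e, e = orderOf σ := ⟨_, rfl⟩
  haveI : Finite (F ≃+* F) :=
    Finite.of_injective (fun s : F ≃+* F => (s : F → F)) DFunLike.coe_injective
  have he1 : 1 ≤ e := he ▸ orderOf_pos σ
  letI : Fintype (fixField σ) := Fintype.ofFinite _
  obtain ⟨hdvd, hcard⟩ := card_fixField σ (p := p) (f := f₀) (by simpa using hF)
  set h := normProd σ g e with hh
  have hhg : g * GeneralLinearGroup.map (σ : F →+* F) h = h * g := by
    rw [hh, ← normProd_succ, normProd_succ', he, pow_orderOf_eq_one]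
    exact congrArg _ (glMap_refl g)
  obtain ⟨f, hf, hfm, hfd⟩ :=
    exists_descent_poly σ h.1.charpoly_monic (charpoly_conj_fixed σ hhg)
  rw [Matrix.charpoly_natDegree_eq_dim, Fintype.card_fin] at hfd
  obtain ⟨j, c, hj, hjd, hjb⟩ := linear_exponent f hfm (coeff_zero_descent _ h hf) hfd (by omega)
  have hz : semiAut g σ ^ (e * j) = 1 := by
    rw [pow_mul, semiAut_pow, ← hh, he, pow_orderOf_eq_one]
    exact semiAut_refl_pow_eq_one hd (pow_mem_center _ h f hf hjd)
  refine (orderOf_le_of_pow_eq_one (Nat.mul_pos he1 hj) hz).trans ?_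
  have hq : Fintype.card F = Fintype.card (fixField σ) ^ e := by
    rw [hcard, ← pow_mul, he, Nat.div_mul_cancel hdvd]; simpa using hF
  have hq0 : 2 ≤ Fintype.card (fixField σ) := Fintype.one_lt_card
  refine (Nat.mul_le_mul le_rfl (le_geomS hq0 hjb)).trans ?_
  rw [hq]
  refine scale_geomS hq0 hd he1 ?_
  by_contra hne
  simp only [not_or, not_le] at hne
  obtain ⟨hd3, hq3, he3, he2⟩ := hne
  have := h2 (by omega)
  rw [hq, show Fintype.card (fixField σ) = 2 by omega, show e = 2 by omega] at this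
  omega

theorem glInvTrans_glInvTrans (x : GL (Fin d) F) : glInvTrans (glInvTrans x) = x :=
  Units.ext (Matrix.transpose_transpose _)

theorem glInvTrans_glMap (σ : F →+* F) (x : GL (Fin d) F) :
    glInvTrans (GeneralLinearGroup.map σ x) = GeneralLinearGroup.map σ (glInvTrans x) := by
  refine Units.ext ?_
  show ((GeneralLinearGroup.map σ x)⁻¹).1.transpose = ((x⁻¹).1.transpose).map σ
  rw [← map_inv, Matrix.transpose_map]
  rfl

theorem glInvTrans_mul (x y : GL (Fin d) F) :
    glInvTrans (x * y) = glInvTrans x * glInvTrans y := by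
  refine Units.ext ?_
  show ((x * y)⁻¹).1.transpose = (x⁻¹).1.transpose * (y⁻¹).1.transpose
  rw [_root_.mul_inv_rev, Units.val_mul, Matrix.transpose_mul]

/-- The square of a graph twist. -/
theorem graph_comm [Finite F] (σ : F ≃+* F) (g : GL (Fin d) F) (k : ℕ) :
    g * GeneralLinearGroup.map (σ : F →+* F)
        (glInvTrans (normProd (σ * σ) (g * GeneralLinearGroup.map (σ : F →+* F) (glInvTrans g)) k)) =
      normProd (σ * σ) (g * GeneralLinearGroup.map (σ : F →+* F) (glInvTrans g)) k *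
        GeneralLinearGroup.map (((σ * σ) ^ k : F ≃+* F) : F →+* F) g := by
  induction k with
  | zero =>
    have h1 : glInvTrans (1 : GL (Fin d) F) = 1 :=
      mul_eq_left.1 ((glInvTrans_mul 1 1).symm.trans (by rw [one_mul]))
    rw [normProd_zero, h1, map_one, mul_one, one_mul, pow_zero]
    exact (glMap_refl g).symm
  | succ k ih =>
    rw [normProd_succ' (σ * σ), glInvTrans_mul, map_mul, ← mul_assoc, ih, glInvTrans_glMap,
      glInvTrans_mul, glInvTrans_glMap, glInvTrans_glInvTrans, map_mul, map_mul, map_mul,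
      glMap_glMap, glMap_glMap, glMap_glMap, glMap_glMap]
    have hc : σ * (σ * σ) ^ k = (σ * σ) ^ k * σ :=
      ((Commute.refl σ).mul_right (Commute.refl σ)).pow_right k
    simp only [← mul_assoc]
    rw [hc, mul_assoc ((σ * σ) ^ k) σ σ, ← pow_succ]

/-- The automorphism `x ↦ x ^ q₀` on the field of `q₀ ^ 2` elements. -/
theorem restrict_eq_pow [Fintype F] {p : ℕ} [Fact p.Prime] [CharP F p] {r : ℕ} (σ : F ≃+* F)
    [Fintype (fixField σ)]
    (hcard : Fintype.card (fixField σ) = p ^ r) {y : F} (hy : σ (σ y) = y) :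
    σ y = y ^ p ^ r := by
  classical
  have hq2 : 2 ≤ p ^ r := hcard ▸ Fintype.one_lt_card
  have hfix : ∀ x, σ x = x → x ^ p ^ r = x := fun x hx => by
    have := congrArg Subtype.val (FiniteField.pow_card (⟨x, mem_fixField.2 hx⟩ : fixField σ))
    rwa [hcard, SubmonoidClass.coe_pow] at this
  have hs : (y + σ y) ^ p ^ r = y + σ y := hfix _ (by rw [map_add, hy, add_comm])
  have ht : (y * σ y) ^ p ^ r = y * σ y := hfix _ (by rw [map_mul, hy, mul_comm])
  rw [add_pow_char_pow] at hs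
  rw [mul_pow] at ht
  have hprod : (y ^ p ^ r - y) * (y ^ p ^ r - σ y) = 0 := by
    linear_combination (y ^ p ^ r) * hs - ht
  rcases mul_eq_zero.1 hprod with h | h
  · by_cases hfy : σ y = y
    · exact hfy.trans (sub_eq_zero.1 h).symm
    exfalso
    set s := insert y ((Finset.univ : Finset (fixField σ)).map ⟨Subtype.val, Subtype.val_injective⟩)
      with hs'
    have hs1 : s.card = p ^ r + 1 := by
      rw [hs', Finset.card_insert_of_notMem, Finset.card_map, Finset.card_univ, hcard]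
      rintro hm
      obtain ⟨⟨x, hx⟩, -, rfl⟩ := Finset.mem_map.1 hm
      exact hfy (mem_fixField.1 hx)
    have hne : (X ^ p ^ r - X : F[X]) ≠ 0 := FiniteField.X_pow_card_sub_X_ne_zero F (by omega)
    have hsub : s.card ≤ (X ^ p ^ r - X : F[X]).natDegree := by
      refine Polynomial.card_le_degree_of_subset_roots fun x hx => ?_
      rw [mem_roots hne, IsRoot, eval_sub, eval_pow, eval_X, sub_eq_zero]
      rcases Finset.mem_insert.1 hx with rfl | hm
      · exact sub_eq_zero.1 h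
      · obtain ⟨⟨z, hz⟩, -, rfl⟩ := Finset.mem_map.1 hm
        exact hfix z (mem_fixField.1 hz)
    rw [hs1, FiniteField.X_pow_card_sub_X_natDegree_eq F (by omega)] at hsub
    omega
  · exact (sub_eq_zero.1 h).symm

theorem tilde_descent {K : Type*} [Field K] (ι : K →+* F) (σ₁ : K →+* K) (σ : F →+* F)
    (hσ : ∀ x, ι (σ₁ x) = σ (ι x)) (f : K[X]) (h : tilde σ (f.map ι) = f.map ι) :
    tilde σ₁ f = f := by
  refine Polynomial.map_injective ι ι.injective ?_
  have hrev : (f.map ι).reverse = f.reverse.map ι := by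
    ext n
    simp only [coeff_reverse, coeff_map, natDegree_map]
  rw [← h]
  rw [tilde, tilde, srev, srev, hrev, Polynomial.map_mul, map_C, map_inv₀, hσ, coeff_map,
    Polynomial.map_map, Polynomial.map_map]
  congr 2
  exact RingHom.ext hσ

/-- The bound on the coset of a graph automorphism. -/
theorem orderOf_graph_le [Fintype F] (hd : 3 ≤ d) (h32 : ¬ (d = 3 ∧ Fintype.card F = 2))
    (g : GL (Fin d) F) (σ : F ≃+* F) :
    orderOf (semiAut g σ * itAut) ≤ geomS (Fintype.card F) d := by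
  classical
  obtain ⟨p, hp⟩ := CharP.exists F
  obtain ⟨⟨f₀, hf₀⟩, hpr, hF⟩ := FiniteField.card F p
  haveI : Fact p.Prime := ⟨hpr⟩
  haveI : Finite (F ≃+* F) :=
    Finite.of_injective (fun s : F ≃+* F => (s : F → F)) DFunLike.coe_injective
  replace hF : Fintype.card F = p ^ f₀ := by simpa using hF
  obtain ⟨e, he⟩ : ∃ e, e = orderOf (σ * σ) := ⟨_, rfl⟩
  have he1 : 1 ≤ e := he ▸ orderOf_pos _
  set h := normProd (σ * σ) (g * GeneralLinearGroup.map (σ : F →+* F) (glInvTrans g)) e with hh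
  have hhg : g * GeneralLinearGroup.map (σ : F →+* F) (glInvTrans h) = h * g := by
    rw [hh, graph_comm, he, pow_orderOf_eq_one]
    exact congrArg _ (glMap_refl g)
  -- the characteristic polynomial
  have htil : tilde (σ : F →+* F) h.1.charpoly = h.1.charpoly := by
    have e1 : GeneralLinearGroup.map (σ : F →+* F) (glInvTrans h) = g⁻¹ * h * g := by
      rw [mul_assoc, eq_inv_mul_iff_mul_eq, hhg]
    have e2 := congrArg Units.val e1
    rw [Units.val_mul, Units.val_mul, Matrix.coe_units_inv] at e2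
    have e3 := congrArg Matrix.charpoly e2
    rw [Matrix.charpoly_units_conj'] at e3
    change (((h⁻¹).1.transpose).map (σ : F →+* F)).charpoly = _ at e3
    rw [Matrix.charpoly_map, Matrix.charpoly_transpose, Matrix.coe_units_inv,
      CfsgLib.Classical.SemiUnitaryExists.charpoly_inv_eq, Polynomial.map_mul, map_C, map_inv₀] at e3
    exact e3
  have hfix : h.1.charpoly.map ((σ * σ : F ≃+* F) : F →+* F) = h.1.charpoly := by
    refine charpoly_conj_fixed (σ * σ)
      (g := g * GeneralLinearGroup.map (σ : F →+* F) (glInvTrans g)) ?_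
    rw [hh, ← normProd_succ, normProd_succ', he, pow_orderOf_eq_one]
    exact congrArg _ (glMap_refl _)
  obtain ⟨f, hf, hfm, hfd⟩ := exists_descent_poly (σ * σ) h.1.charpoly_monic hfix
  rw [Matrix.charpoly_natDegree_eq_dim, Fintype.card_fin] at hfd
  have hf0 := coeff_zero_descent _ h hf
  -- order from an exponent
  have hord : ∀ (E : ℕ) (c : fixField (σ * σ)), 0 < E → f ∣ X ^ E - C c →
      orderOf (semiAut g σ * itAut) ≤ 2 * e * E := fun E c hE hdvd => by
    refine orderOf_le_of_pow_eq_one (by positivity) ?_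
    rw [pow_mul, pow_mul, sq, graphField_mul_self, semiAut_pow, ← hh, he, pow_orderOf_eq_one]
    exact semiAut_refl_pow_eq_one (by omega) (pow_mem_center _ h f hf hdvd)
  -- the restriction of `σ`
  have hmem : ∀ x : fixField (σ * σ), σ x.1 ∈ fixField (σ * σ) := fun x => by
    show σ (σ (σ x.1)) = σ x.1
    exact congrArg σ (mem_fixField.1 x.2)
  let σ₁ : fixField (σ * σ) →+* fixField (σ * σ) :=
    ((σ : F →+* F).comp (fixField (σ * σ)).subtype).codRestrict (fixField (σ * σ)) hmem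
  have hσ₁ : tilde σ₁ f = f :=
    tilde_descent (fixField (σ * σ)).subtype σ₁ (σ : F →+* F) (fun _ => rfl) f (by rw [hf]; exact htil)
  haveI : CharP (fixField (σ * σ)) p := inferInstance
  letI : Fintype (fixField σ) := Fintype.ofFinite _
  letI : Fintype (fixField (σ * σ)) := Fintype.ofFinite _
  obtain ⟨hdvd2, hcard2⟩ := card_fixField (σ * σ) (p := p) hF
  obtain ⟨hdvd1, hcard1⟩ := card_fixField σ (p := p) hF
  have hn1 : 1 ≤ orderOf σ := orderOf_pos σ
  have hgcd : e = orderOf σ / Nat.gcd (orderOf σ) 2 := by rw [he, ← sq, orderOf_pow]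
  obtain ⟨r, hr⟩ : ∃ r, r = f₀ / orderOf σ := ⟨_, rfl⟩
  have hr' : f₀ = orderOf σ * r := by rw [hr, Nat.mul_div_cancel' hdvd1]
  obtain ⟨q₀, hq₀⟩ : ∃ q₀, q₀ = p ^ r := ⟨_, rfl⟩
  rw [← hr, ← hq₀] at hcard1
  have hq2 : 2 ≤ q₀ := hcard1 ▸ Fintype.one_lt_card
  have hq : Fintype.card F = q₀ ^ orderOf σ := by rw [hF, hr', hq₀, ← pow_mul, mul_comm]
  rcases Nat.even_or_odd (orderOf σ) with ⟨m, hm⟩ | hodd
  · -- even: conjugate-reciprocal over `fixField (σ * σ)`
    have hg2 : Nat.gcd (orderOf σ) 2 = 2 := Nat.gcd_eq_right ⟨m, by omega⟩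
    have hem : e = m := by rw [hgcd, hg2]; omega
    have hQ : Fintype.card (fixField (σ * σ)) = q₀ ^ 2 := by
      rw [hcard2, hq₀, ← pow_mul, ← he, hem, hr', hm, show (m + m) * r = m * (r * 2) by ring,
        Nat.mul_div_cancel_left _ (by omega)]
    have hσpow : ∀ x, σ₁ x = x ^ q₀ := fun x => Subtype.ext (by
      rw [SubmonoidClass.coe_pow, hq₀]
      exact restrict_eq_pow σ (hcard1.trans hq₀) (mem_fixField.1 x.2))
    have hr1 : 1 ≤ r := by
      by_contra hcon
      rw [show r = 0 by omega, pow_zero] at hq₀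
      omega
    obtain ⟨E, c, hE, hEb, hdvd⟩ :=
      exists_exponent_herm (p := p) hq₀ hr1 hQ σ₁ hσpow f hfm hf0 hσ₁ hfd (by omega)
    refine (hord E c hE hdvd).trans ?_
    rw [hem, hq, hm, show m + m = 2 * m by ring, pow_mul]
    obtain ⟨k, rfl⟩ : ∃ k, d = k + 3 := ⟨d - 3, by omega⟩
    rw [show k + 3 - 2 = k + 1 by omega] at hEb
    have hA : 2 * q₀ ^ (k + 3) ≤ (q₀ ^ 2) ^ (k + 2) := by
      rw [← pow_mul]
      calc 2 * q₀ ^ (k + 3) ≤ q₀ ^ (k + 4) := by
            rw [pow_succ' q₀ (k + 3)]; exact Nat.mul_le_mul hq2 le_rfl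
        _ ≤ q₀ ^ (2 * (k + 2)) := Nat.pow_le_pow_right (by omega) (by omega)
    have hB : 2 * q₀ ^ (k + 1) ≤ (q₀ ^ 2) ^ (k + 1) := by
      rw [← pow_mul]
      calc 2 * q₀ ^ (k + 1) ≤ q₀ ^ (k + 2) := by
            rw [pow_succ' q₀ (k + 1)]; exact Nat.mul_le_mul hq2 le_rfl
        _ ≤ q₀ ^ (2 * (k + 1)) := Nat.pow_le_pow_right (by omega) (by omega)
    have hQ2 : 2 ≤ q₀ ^ 2 := hq2.trans (Nat.le_self_pow (by omega) _)
    have hsw : ∀ i, 1 ≤ i → m * (q₀ ^ 2) ^ i ≤ ((q₀ ^ 2) ^ m) ^ i := fun i hi => by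
      rw [← pow_mul _ m i, mul_comm m i, pow_mul _ i m]
      exact mul_le_pow_self (hQ2.trans (Nat.le_self_pow (by omega) _))
    calc 2 * m * E ≤ 2 * m * (q₀ ^ (k + 3) + q₀ ^ (k + 1)) := Nat.mul_le_mul le_rfl hEb
      _ = m * (2 * q₀ ^ (k + 3)) + m * (2 * q₀ ^ (k + 1)) := by ring
      _ ≤ ((q₀ ^ 2) ^ m) ^ (k + 2) + ((q₀ ^ 2) ^ m) ^ (k + 1) :=
          Nat.add_le_add ((Nat.mul_le_mul le_rfl hA).trans (hsw _ (by omega)))
            ((Nat.mul_le_mul le_rfl hB).trans (hsw _ (by omega)))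
      _ ≤ geomS ((q₀ ^ 2) ^ m) (k + 3) := by
          rw [geomS, Finset.sum_range_succ, Finset.sum_range_succ]; omega
  · -- odd: self-reciprocal
    have hg1 : Nat.gcd (orderOf σ) 2 = 1 := (Nat.coprime_two_right.2 hodd)
    have hem : e = orderOf σ := by rw [hgcd, hg1, Nat.div_one]
    have hQ : Fintype.card (fixField (σ * σ)) = q₀ := by
      rw [hcard2, hq₀, ← he, hem, ← hr]
    have hσid : σ₁ = RingHom.id _ := by
      refine RingHom.ext fun x => Subtype.ext ?_
      show σ x.1 = x.1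
      obtain ⟨i, hi⟩ := hodd
      have h2 : ∀ j, ((σ * σ) ^ j : F ≃+* F) x.1 = x.1 := fun j => by
        induction j with
        | zero => rfl
        | succ j ih =>
          rw [pow_succ']
          show (σ * σ) (((σ * σ) ^ j : F ≃+* F) x.1) = _
          rw [ih]
          exact mem_fixField.1 x.2
      have h3 := RingEquiv.congr_fun (pow_orderOf_eq_one σ) x.1
      rw [hi, pow_succ', two_mul, pow_add, ← (Commute.refl σ).mul_pow] at h3
      change σ (((σ * σ) ^ i : F ≃+* F) x.1) = x.1 at h3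
      rwa [h2] at h3
    rw [hσid] at hσ₁
    obtain ⟨E, c, hE, hdvd, hsmall, hbig⟩ := orth_exponent (p := p) f hfm hf0 hσ₁ hfd hd
    refine (hord E c hE hdvd).trans ?_
    rw [hQ] at hsmall hbig
    rw [hem, hq]
    by_cases hc : q₀ = 2 ∧ d = 3
    · have hE4 := hsmall hc
      obtain ⟨rfl, rfl⟩ := hc
      have h3 : 3 ≤ orderOf σ := by
        obtain ⟨i, hi⟩ := hodd
        rcases Nat.eq_zero_or_pos i with rfl | hi0
        · exact absurd ⟨rfl, by rw [hq, hi]; norm_num⟩ h32
        · omega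
      have h4 := mul_le_pow_self (x := 2) le_rfl (e := orderOf σ)
      have hS : geomS (2 ^ orderOf σ) 3 = 1 + 2 ^ orderOf σ + 2 ^ orderOf σ * 2 ^ orderOf σ := by
        simp only [geomS, Finset.sum_range_succ, Finset.sum_range_zero, pow_zero, pow_one, sq]; ring
      rw [hS]
      nlinarith
    · have h := hbig hc
      calc 2 * orderOf σ * E = orderOf σ * (2 * E) := by ring
        _ ≤ orderOf σ * geomS q₀ d := Nat.mul_le_mul le_rfl h
        _ ≤ geomS (q₀ ^ orderOf σ) d := scale_geomS hq2 (by omega) hn1 (Or.inl hd)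

theorem orderOf_inndiag_eq (hd : 2 ≤ d) (g : GL (Fin d) F) :
    orderOf (inndiagHom g) =
      orderOf (QuotientGroup.mk g : GL (Fin d) F ⧸ Subgroup.center (GL (Fin d) F)) := by
  refine orderOf_eq_orderOf_iff.2 fun n => ?_
  rw [← map_pow, inndiagHom_apply, semiAut_eq_one_iff hd, ← QuotientGroup.mk_pow,
    QuotientGroup.eq_one_iff]
  exact ⟨fun h => h.2, fun h => ⟨rfl, h⟩⟩

end CfsgLib.KnownA.RecipOrder
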