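import Mathlib
import Cfsg.Agent.Lib.Classical.SemiPalin
import Cfsg.Agent.Lib.KnownC.SympSpectrum

/-!
Orders of the roots of self-reciprocal and conjugate-reciprocal irreducible polynomials over a
finite field.
-/

set_option autoImplicit false

namespace CfsgLib.KnownA.RecipOrder

open Polynomial CfsgLib.Classical.SemiPalin
open CfsgLib.KnownC.SympSpectrum (aeval_inv_root root_ne_zero card_adjoinRoot
  aeval_reverse_of_mul_eq_one dvd_of_root_pow)

variable {F : Type*} [Field F] [Fintype F]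

theorem dvd_of_root_eq_one {P : F[X]} [Fact (Irreducible P)] {M : ℕ}
    (h : (AdjoinRoot.root P) ^ M = 1) : P ∣ X ^ M - 1 := by
  have := dvd_of_root_pow (S := P) (M := M) (c := 1) (by rw [map_one]; exact h)
  rwa [map_one] at this

/-- Every irreducible not dividing `X` divides `X ^ (q^deg - 1) - 1`. -/
theorem dvd_pow_sub_one {P : F[X]} (hP : Irreducible P) (h0 : P.coeff 0 ≠ 0) :
    P ∣ X ^ (Fintype.card F ^ P.natDegree - 1) - 1 := by
  have := Fact.mk hP
  have : Module.Finite F (AdjoinRoot P) := (AdjoinRoot.powerBasis hP.ne_zero).finite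
  have : Finite (AdjoinRoot P) := Module.finite_of_finite F
  letI : Fintype (AdjoinRoot P) := Fintype.ofFinite _
  refine dvd_of_root_eq_one ?_
  have h1 := FiniteField.pow_card_sub_one_eq_one (AdjoinRoot.root P) (root_ne_zero h0)
  rwa [← Nat.card_eq_fintype_card, card_adjoinRoot hP] at h1

/-- A root fixed by the `i`-th power of Frobenius. -/
theorem natDegree_dvd_of_root_fixed {P : F[X]} [hP : Fact (Irreducible P)] {i : ℕ}
    (h : (AdjoinRoot.root P) ^ Fintype.card F ^ i = AdjoinRoot.root P) : P.natDegree ∣ i := by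
  let K := AdjoinRoot P
  have : Module.Finite F K := (AdjoinRoot.powerBasis hP.out.ne_zero).finite
  have : Finite K := Module.finite_of_finite F
  have hone : (FiniteField.frobeniusAlgEquivOfAlgebraic F K) ^ i = 1 := by
    refine AlgEquiv.coe_algHom_injective (AdjoinRoot.algHom_ext ?_)
    show ((FiniteField.frobeniusAlgEquivOfAlgebraic F K) ^ i) (AdjoinRoot.root P) = AdjoinRoot.root P
    rw [AlgEquiv.coe_pow, FiniteField.coe_frobeniusAlgEquivOfAlgebraic_iterate]
    exact h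
  have hdvd := orderOf_dvd_of_pow_eq_one hone
  rwa [FiniteField.orderOf_frobeniusAlgEquivOfAlgebraic,
    (AdjoinRoot.powerBasis hP.out.ne_zero).finrank, AdjoinRoot.powerBasis_dim] at hdvd

/-- The other roots are Frobenius powers of the adjoined one. -/
theorem exists_frobenius {P : F[X]} [hP : Fact (Irreducible P)] {γ : AdjoinRoot P}
    (hγ : aeval γ P = 0) :
    ∃ i < P.natDegree, (AdjoinRoot.root P) ^ Fintype.card F ^ i = γ := by
  let K := AdjoinRoot P
  have : Module.Finite F K := (AdjoinRoot.powerBasis hP.out.ne_zero).finite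
  have : Finite K := Module.finite_of_finite F
  let τ : K →ₐ[F] K := AdjoinRoot.liftAlgHom P (Algebra.ofId F K) γ (show eval₂ (algebraMap F K) γ P = 0 by rw [← aeval_def]; exact hγ)
  let τ' : K ≃ₐ[F] K := AlgEquiv.ofBijective τ
    ⟨τ.toRingHom.injective, Finite.injective_iff_surjective.1 τ.toRingHom.injective⟩
  obtain ⟨⟨i, hi⟩, hpow⟩ := (FiniteField.bijective_frobeniusAlgEquivOfAlgebraic_pow F K).2 τ'
  rw [(AdjoinRoot.powerBasis hP.out.ne_zero).finrank, AdjoinRoot.powerBasis_dim] at hi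
  refine ⟨i, hi, ?_⟩
  have h1 := DFunLike.congr_fun hpow (AdjoinRoot.root P)
  rw [AlgEquiv.coe_pow, FiniteField.coe_frobeniusAlgEquivOfAlgebraic_iterate] at h1
  exact h1.trans (AdjoinRoot.liftAlgHom_root P (Algebra.ofId F K) γ
    (show eval₂ (algebraMap F K) γ P = 0 by rw [← aeval_def]; exact hγ))

/-- A self-reciprocal irreducible is `X ± 1`, or has degree `2k` and divides `X ^ (q^k+1) - 1`. -/
theorem self_cases {P : F[X]} (hP : Irreducible P) (hm : P.Monic) (h0 : P.coeff 0 ≠ 0)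
    (ht : tilde (RingHom.id F) P = P) :
    P = X - C 1 ∨ P = X - C (-1) ∨
      ∃ k, 1 ≤ k ∧ P.natDegree = 2 * k ∧ P ∣ X ^ (Fintype.card F ^ k + 1) - 1 := by
  have := Fact.mk hP
  set β : AdjoinRoot P := AdjoinRoot.root P with hβ
  have hβ0 : β ≠ 0 := root_ne_zero h0
  obtain ⟨i, hi, hβi⟩ := exists_frobenius (P := P) (γ := β⁻¹)
    (aeval_inv_root h0 (by rw [ht, hβ, AdjoinRoot.aeval_eq, AdjoinRoot.mk_self]) hβ0)
  rw [← hβ] at hβi
  rcases Nat.eq_zero_or_pos i with rfl | hipos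
  · rw [pow_zero, pow_one] at hβi
    have hlin : ∀ c : F, β = algebraMap F _ c → P = X - C c := fun c hc => by
      refine eq_of_monic_of_associated hm (monic_X_sub_C c) ?_
      have h3 : P ∣ X ^ 1 - C c := dvd_of_root_pow (by rw [pow_one]; exact hc)
      rw [pow_one] at h3
      exact hP.associated_of_dvd (irreducible_X_sub_C c) h3
    rcases mul_self_eq_one_iff.1 (show β * β = 1 by nth_rw 2 [hβi]; exact mul_inv_cancel₀ hβ0) with
      h | h
    · exact Or.inl (hlin 1 (by rw [h, map_one]))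
    · exact Or.inr (Or.inl (hlin (-1) (by rw [h, map_neg, map_one])))
  · have hfix : β ^ Fintype.card F ^ (i + i) = β := by
      rw [pow_add, pow_mul, hβi, inv_pow, hβi, inv_inv]
    obtain ⟨t, ht'⟩ := natDegree_dvd_of_root_fixed (P := P) hfix
    refine Or.inr (Or.inr ⟨i, hipos, ?_, dvd_of_root_eq_one ?_⟩)
    · rcases t with _ | _ | t
      · omega
      · omega
      · nlinarith
    · rw [← hβ, pow_succ, hβi, inv_mul_cancel₀ hβ0]

/-- A conjugate-reciprocal irreducible has odd degree `D` and divides `X ^ (q₀^D+1) - 1`. -/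
theorem herm_case {q₀ : ℕ} {p r : ℕ} [hp : Fact p.Prime] [CharP F p] (hr : q₀ = p ^ r)
    (hq : Fintype.card F = q₀ ^ 2) (σ : F →+* F) (hσ : ∀ x, σ x = x ^ q₀) {P : F[X]}
    (hP : Irreducible P) (h0 : P.coeff 0 ≠ 0) (ht : tilde σ P = P) :
    Odd P.natDegree ∧ P ∣ X ^ (q₀ ^ P.natDegree + 1) - 1 := by
  have := Fact.mk hP
  let K := AdjoinRoot P
  have : Module.Finite F K := (AdjoinRoot.powerBasis hP.ne_zero).finite
  have : Finite K := Module.finite_of_finite F
  haveI : CharP K p := charP_of_injective_algebraMap (algebraMap F K).injective p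
  set β : K := AdjoinRoot.root P with hβ
  have hβ0 : β ≠ 0 := root_ne_zero h0
  let Φ : K →+* K := iterateFrobenius K p r
  have hΦ : ∀ x, Φ x = x ^ q₀ := fun x => by rw [hr]; exact iterateFrobenius_def p r x
  obtain ⟨γ, hγ⟩ := (Finite.injective_iff_surjective.1 Φ.injective) β
  have hγ0 : γ ≠ 0 := fun h => hβ0 (by rw [← hγ, h, map_zero])
  have hrev : aeval γ P.reverse = 0 := by
    apply Φ.injective
    rw [map_zero, aeval_def, hom_eval₂, hγ]
    have hc : Φ.comp (algebraMap F K) = (algebraMap F K).comp σ :=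
      RingHom.ext fun x => by rw [RingHom.comp_apply, RingHom.comp_apply, hΦ, hσ, map_pow]
    rw [hc, ← eval₂_map, ← aeval_def]
    have h1 : aeval β (tilde σ P) = 0 := by rw [ht, hβ, AdjoinRoot.aeval_eq, AdjoinRoot.mk_self]
    rw [tilde, map_mul, aeval_C, mul_eq_zero] at h1
    exact h1.resolve_left (by simpa using h0)
  have hinv : aeval γ⁻¹ P = 0 := by
    rw [← aeval_reverse_of_mul_eq_one (mul_inv_cancel₀ hγ0) P, hrev, zero_mul]
  obtain ⟨i, hi, hγi⟩ := exists_frobenius (P := P) hinv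
  rw [← hβ] at hγi
  have hpow : β ^ q₀ ^ (2 * i + 1) = β⁻¹ := by
    rw [pow_succ, pow_mul, pow_mul, ← hq, hγi, inv_pow, ← hΦ, hγ]
  have hfix : β ^ Fintype.card F ^ (2 * i + 1) = β := by
    rw [hq, ← pow_mul, two_mul (2 * i + 1), pow_add, pow_mul, hpow, inv_pow, hpow, inv_inv]
  obtain ⟨t, ht'⟩ := natDegree_dvd_of_root_fixed (P := P) hfix
  have hD : P.natDegree = 2 * i + 1 := by
    rcases t with _ | _ | t
    · omega
    · omega
    · nlinarith
  refine ⟨⟨i, hD⟩, dvd_of_root_eq_one ?_⟩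
  rw [← hβ, pow_succ, hD, hpow, inv_mul_cancel₀ hβ0]

omit [Fintype F] in
/-- A reciprocal piece: irreducible, or an exchanged pair. -/
theorem exists_piece (σ : F →+* F) (hσ : ∀ x, σ (σ x) = x) {f : F[X]} (hf : f.Monic)
    (h0 : f.coeff 0 ≠ 0) (ht : tilde σ f = f) (hd : 0 < f.natDegree) :
    ∃ a b : F[X], a.Monic ∧ b.Monic ∧ f = a * b ∧ 0 < a.natDegree ∧ tilde σ a = a ∧ tilde σ b = b ∧
      (Irreducible a ∨ ∃ P : F[X], Irreducible P ∧ P.Monic ∧ P.coeff 0 ≠ 0 ∧ tilde σ P ≠ P ∧ a = P * tilde σ P) := by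
  obtain ⟨P, hPm, hP, R, hR⟩ := exists_monic_irreducible_factor f (fun h => by
    have := natDegree_eq_zero_of_isUnit h; omega)
  have h0' := h0
  rw [hR, mul_coeff_zero] at h0'
  obtain ⟨hP0, hR0⟩ := mul_ne_zero_iff.1 h0'
  have hRm : R.Monic := hPm.of_mul_monic_left (hR ▸ hf)
  obtain ⟨hQm, hQd, -⟩ := tilde_facts σ hPm hP0
  have hQ := tilde_irreducible σ hσ hPm hP0 hP
  have hsplit : f = tilde σ P * tilde σ R := by rw [← tilde_mul, ← hR, ht]
  by_cases hPQ : tilde σ P = P
  · refine ⟨P, R, hPm, hRm, hR, hP.natDegree_pos, hPQ, ?_, Or.inl hP⟩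
    refine mul_left_cancel₀ hP.ne_zero ?_
    rw [← hR]; conv_rhs => rw [hsplit, hPQ]
  · have hdvd : tilde σ P ∣ R := by
      have h1 : tilde σ P ∣ P * R := ⟨tilde σ R, by rw [← hR, hsplit]⟩
      exact (hQ.prime.dvd_or_dvd h1).resolve_left fun h =>
        hPQ (eq_of_monic_of_associated hQm hPm (hQ.associated_of_dvd hP h))
    obtain ⟨S, hS⟩ := hdvd
    have hSm : S.Monic := hQm.of_mul_monic_left (hS ▸ hRm)
    have hPPm := hPm.mul hQm
    refine ⟨P * tilde σ P, S, hPPm, hSm, by rw [hR, hS, mul_assoc], ?_, ?_, ?_,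
      Or.inr ⟨P, hP, hPm, hP0, hPQ, rfl⟩⟩
    · rw [hPm.natDegree_mul hQm]; have := hP.natDegree_pos; omega
    · rw [tilde_mul, tilde_tilde σ hσ hPm hP0, mul_comm]
    · refine mul_left_cancel₀ (mul_ne_zero hQ.ne_zero hP.ne_zero) ?_
      have h3 := ht
      rw [hR, hS, tilde_mul, tilde_mul, tilde_tilde σ hσ hPm hP0] at h3
      rw [mul_assoc, h3]; ring

end CfsgLib.KnownA.RecipOrder
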