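import Cfsg.Agent.Lib.KnownA.RecipOrder.Irred

/-!
A self-reciprocal polynomial over the field of `q` elements divides a product of powers of `X - 1`,
`X + 1` and `X ^ L - 1` with `L (q - 1) < q ^ (h + 1)`, `2 h` the degree away from `±1`.
-/

set_option autoImplicit false

namespace CfsgLib.KnownA.RecipOrder

open Polynomial CfsgLib.Classical.SemiPalin
open CfsgLib.KnownC.SympSpectrum (aeval_reverse_of_mul_eq_one reverse_of_tilde)

/-- Products `C · ∏ G v` in which `G v` is a multiple of `q ^ 2 ^ v + 1` of size `q ^ A v + 1`. -/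
def Merge (q h L : ℕ) : Prop :=
  ∃ (V : Finset ℕ) (A G : ℕ → ℕ) (C c : ℕ), 1 ≤ C ∧ C ≤ q ^ c ∧
    (∀ v ∈ V, q ^ 2 ^ v + 1 ∣ G v ∧ G v ≤ q ^ A v + 1 ∧ 1 ≤ G v ∧ 2 ^ v ≤ A v) ∧
    L = C * ∏ v ∈ V, G v ∧ c + ∑ v ∈ V, A v ≤ h

theorem merge_one (q : ℕ) : Merge q 0 1 :=
  ⟨∅, fun _ => 0, fun _ => 1, 1, 0, le_rfl, by simp, by simp, by simp, by simp⟩

theorem Merge.one_le {q h L : ℕ} (hm : Merge q h L) : 1 ≤ L := by
  obtain ⟨V, A, G, C, c, hC, -, hG, rfl, -⟩ := hm
  exact Nat.one_le_iff_ne_zero.2 (Nat.mul_ne_zero (by omega)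
    (Finset.prod_ne_zero_iff.2 fun v hv => (by have := (hG v hv).2.2.1; omega)))

theorem Merge.pair {q h L : ℕ} (hq : 2 ≤ q) (hm : Merge q h L) {a : ℕ} (ha : 1 ≤ a) :
    Merge q (h + a) (L * (q ^ a - 1)) := by
  obtain ⟨V, A, G, C, c, hC, hCc, hG, rfl, hh⟩ := hm
  have h1 : 2 ≤ q ^ a := hq.trans (Nat.le_self_pow (by omega) q)
  refine ⟨V, A, G, C * (q ^ a - 1), c + a, Nat.one_le_iff_ne_zero.2 (Nat.mul_ne_zero (by omega)
    (by omega)), ?_, hG, by ring, by omega⟩
  rw [pow_add]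
  exact Nat.mul_le_mul hCc (Nat.sub_le _ _)

theorem Merge.self {q h L : ℕ} (hq : 2 ≤ q) (hm : Merge q h L) {a : ℕ} (ha : 1 ≤ a) :
    ∃ L', Merge q (h + a) L' ∧ L ∣ L' ∧ q ^ a + 1 ∣ L' := by
  classical
  obtain ⟨V, A, G, C, c, hC, hCc, hG, rfl, hh⟩ := hm
  obtain ⟨v, m, hmo, rfl⟩ := Nat.exists_eq_two_pow_mul_odd (show a ≠ 0 by omega)
  set a := 2 ^ v * m
  have hbase : q ^ 2 ^ v + 1 ∣ q ^ a + 1 := by
    have := hmo.nat_add_dvd_pow_add_pow (q ^ 2 ^ v) 1
    rwa [one_pow, ← pow_mul] at this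
  have hva : 2 ^ v ≤ a := Nat.le_mul_of_pos_right _ hmo.pos
  by_cases hv : v ∈ V
  · obtain ⟨⟨k, hk⟩, hGA, hG1, hvA⟩ := hG v hv
    obtain ⟨l, hl⟩ := hbase
    set G' := Function.update G v (k * (q ^ a + 1))
    set A' := Function.update A v (A v + a)
    have hne : ∀ w ∈ V.erase v, G' w = G w ∧ A' w = A w := fun w hw =>
      ⟨Function.update_of_ne (Finset.ne_of_mem_erase hw) _ _,
        Function.update_of_ne (Finset.ne_of_mem_erase hw) _ _⟩
    refine ⟨C * ∏ w ∈ V, G' w, ⟨V, A', G', C, c, hC, hCc, fun w hw => ?_, rfl, ?_⟩, ?_, ?_⟩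
    · by_cases hwv : w = v
      · subst hwv
        simp only [G', A', Function.update_self]
        refine ⟨⟨k * l, by rw [hl]; ring⟩, ?_, ?_, hvA.trans (Nat.le_add_right _ _)⟩
        · refine Nat.le_of_mul_le_mul_left ?_ (show 0 < q ^ 2 ^ w + 1 by omega)
          rw [← mul_assoc, ← hk]
          refine (Nat.mul_le_mul hGA le_rfl).trans ?_
          have h1 : 2 ≤ q ^ A w :=
            hq.trans (Nat.le_self_pow (by have := Nat.one_le_two_pow (n := w); omega) q)
          have h2 : 2 ≤ q ^ a := hq.trans (Nat.le_self_pow (by omega) q)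
          rw [pow_add]
          have h3 : 1 ≤ q ^ 2 ^ w := Nat.one_le_pow _ _ (by omega)
          have key : ∀ x y b : ℕ, 2 ≤ x → 2 ≤ y → 1 ≤ b →
              (x + 1) * (y + 1) ≤ (b + 1) * (x * y + 1) := fun x y b hx hy hb => by
            calc (x + 1) * (y + 1) ≤ 2 * (x * y + 1) := by nlinarith
              _ ≤ (b + 1) * (x * y + 1) := Nat.mul_le_mul_right _ (by omega)
          exact key _ _ _ h1 h2 h3
        · refine Nat.one_le_iff_ne_zero.2 (Nat.mul_ne_zero (fun h0 => ?_) (by omega))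
          rw [h0, mul_zero] at hk
          omega
      · simp only [G', A', Function.update_of_ne hwv]
        exact hG w hw
    · rw [← Finset.add_sum_erase _ _ hv, Finset.sum_congr rfl fun w hw => (hne w hw).2]
      simp only [A', Function.update_self]
      rw [← Finset.add_sum_erase _ _ hv] at hh
      have e : (V.erase v).sum A = ∑ x ∈ V.erase v, A x := rfl
      omega
    · rw [← Finset.mul_prod_erase _ _ hv, ← Finset.mul_prod_erase (f := G') _ hv,
        Finset.prod_congr rfl fun w hw => (hne w hw).1]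
      simp only [G', Function.update_self]
      exact mul_dvd_mul_left C (mul_dvd_mul_right ⟨l, by rw [hk, hl]; ring⟩ _)
    · refine Dvd.dvd.mul_left ?_ _
      refine dvd_trans ?_ (Finset.dvd_prod_of_mem G' hv)
      simp only [G', Function.update_self]
      exact dvd_mul_left _ _
  · set G' := Function.update G v (q ^ a + 1)
    set A' := Function.update A v a
    have hne : ∀ w ∈ V, G' w = G w ∧ A' w = A w := fun w hw =>
      ⟨Function.update_of_ne (fun h => hv (by rw [← h]; exact hw)) _ _,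
        Function.update_of_ne (fun h => hv (by rw [← h]; exact hw)) _ _⟩
    refine ⟨C * ∏ w ∈ insert v V, G' w, ⟨insert v V, A', G', C, c, hC, hCc, fun w hw => ?_, rfl, ?_⟩,
      ?_, ?_⟩
    · rcases Finset.mem_insert.1 hw with rfl | hw'
      · simp only [G', A', Function.update_self]
        exact ⟨hbase, le_rfl, by omega, hva⟩
      · rw [(hne w hw').1, (hne w hw').2]
        exact hG w hw'
    · rw [Finset.sum_insert hv, Finset.sum_congr rfl fun w hw => (hne w hw).2]
      simp only [A', Function.update_self]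
      have e : V.sum A = ∑ x ∈ V, A x := rfl
      omega
    · rw [Finset.prod_insert hv, Finset.prod_congr rfl fun w hw => (hne w hw).1]
      exact mul_dvd_mul_left C (dvd_mul_left _ _)
    · refine Dvd.dvd.mul_left ?_ _
      refine dvd_trans ?_ (Finset.dvd_prod_of_mem G' (Finset.mem_insert_self v V))
      simp only [G', Function.update_self]
      exact dvd_rfl

/-- `∏ (1 + q^(-2^v)) < q / (q - 1)`. -/
theorem Merge.bound {q h L : ℕ} (hq : 2 ≤ q) (hm : Merge q h L) : L * (q - 1) < q ^ (h + 1) := by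
  classical
  obtain ⟨V, A, G, C, c, hC, hCc, hG, rfl, hh⟩ := hm
  obtain ⟨N, hN⟩ := V.exists_nat_subset_range
  have hgeom : ∀ n, (∏ v ∈ Finset.range n, (q ^ 2 ^ v + 1)) * (q - 1) + 1 = q ^ 2 ^ n ∧
      q * q ^ (∑ v ∈ Finset.range n, 2 ^ v) = q ^ 2 ^ n := by
    intro n
    induction n with
    | zero => simp; omega
    | succ n ih =>
      obtain ⟨i1, i2⟩ := ih
      constructor
      · rw [Finset.prod_range_succ, pow_succ 2 n, pow_mul, ← i1]
        ring
      · rw [Finset.sum_range_succ, pow_add, ← mul_assoc, i2, ← pow_add, pow_succ, mul_two]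
  have hGle : (∏ v ∈ V, G v) * q ^ (∑ v ∈ V, 2 ^ v) ≤
      q ^ (∑ v ∈ V, A v) * ∏ v ∈ V, (q ^ 2 ^ v + 1) := by
    rw [← Finset.prod_pow_eq_pow_sum, ← Finset.prod_pow_eq_pow_sum, ← Finset.prod_mul_distrib,
      ← Finset.prod_mul_distrib]
    refine Finset.prod_le_prod' fun v hv => ?_
    obtain ⟨-, hGA, -, hvA⟩ := hG v hv
    calc G v * q ^ 2 ^ v ≤ (q ^ A v + 1) * q ^ 2 ^ v := Nat.mul_le_mul hGA le_rfl
      _ ≤ _ := by
        have : q ^ 2 ^ v ≤ q ^ A v := Nat.pow_le_pow_right (by omega) hvA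
        rw [add_mul, mul_add, mul_one, one_mul]
        omega
  -- the missing exponents
  have hext : (∏ v ∈ V, (q ^ 2 ^ v + 1)) * q ^ (∑ v ∈ Finset.range N \ V, 2 ^ v) ≤
      ∏ v ∈ Finset.range N, (q ^ 2 ^ v + 1) := by
    rw [← Finset.prod_sdiff hN, mul_comm, ← Finset.prod_pow_eq_pow_sum]
    exact Nat.mul_le_mul (Finset.prod_le_prod' fun v _ => Nat.le_succ _) le_rfl
  obtain ⟨g1, g2⟩ := hgeom N
  rw [← Finset.sum_sdiff hN, pow_add] at g2
  set S1 := q ^ (∑ v ∈ V, 2 ^ v)
  set S2 := q ^ (∑ v ∈ Finset.range N \ V, 2 ^ v)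
  set PG := ∏ v ∈ V, G v
  set PV := ∏ v ∈ V, (q ^ 2 ^ v + 1)
  set PN := ∏ v ∈ Finset.range N, (q ^ 2 ^ v + 1)
  set QA := q ^ (∑ v ∈ V, A v)
  have hpos : 0 < S1 * S2 := Nat.mul_pos (pow_pos (by omega) _) (pow_pos (by omega) _)
  refine Nat.lt_of_mul_lt_mul_right (a := S1 * S2) ?_
  calc C * PG * (q - 1) * (S1 * S2) = C * ((PG * S1) * S2) * (q - 1) := by ring
    _ ≤ q ^ c * ((QA * PV) * S2) * (q - 1) := by gcongr
    _ = q ^ c * (QA * (PV * S2)) * (q - 1) := by ring
    _ ≤ q ^ c * (QA * PN) * (q - 1) := by gcongr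
    _ = q ^ c * QA * (PN * (q - 1)) := by ring
    _ < q ^ c * QA * (q * (S2 * S1)) := by
      refine Nat.mul_lt_mul_of_pos_left ?_ (Nat.mul_pos (pow_pos (by omega) _) (pow_pos (by omega) _))
      omega
    _ = q ^ (c + ∑ v ∈ V, A v + 1) * (S1 * S2) := by
      simp only [QA]; rw [pow_succ, pow_add]; ring
    _ ≤ q ^ (h + 1) * (S1 * S2) := by gcongr <;> omega

variable {F : Type*} [Field F]

theorem tilde_X_sub_C {c : F} (hc : c * c = 1) :
    tilde (RingHom.id F) (X - C c) = X - C c := by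
  have h0 : (X - C c).coeff 0 ≠ 0 := by
    rw [coeff_sub, coeff_X_zero, coeff_C_zero, zero_sub, neg_ne_zero]
    exact left_ne_zero_of_mul_eq_one hc
  obtain ⟨hm, hd, hco⟩ := tilde_facts (RingHom.id F) (monic_X_sub_C c) h0
  rw [natDegree_X_sub_C] at hd
  rw [coeff_sub, coeff_X_zero, coeff_C_zero, zero_sub, RingHom.id_apply] at hco
  rw [hm.eq_X_add_C hd, hco, inv_neg, inv_eq_of_mul_eq_one_right hc, map_neg, ← sub_eq_add_neg]

theorem tilde_X_pow_sub_one {L : ℕ} (hL : 1 ≤ L) :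
    tilde (RingHom.id F) (X ^ L - 1) = X ^ L - 1 := by
  have hd : ((X : F[X]) ^ L - 1).natDegree = L := by
    rw [← map_one (C : F →+* F[X]), natDegree_X_pow_sub_C]
  have hrev : ((X : F[X]) ^ L - 1).reverse = 1 - X ^ L := by
    have h1 : reflect L ((X : F[X]) ^ L) = 1 := by
      have := reflect_C_mul_X_pow L L (c := (1 : F))
      rwa [map_one, one_mul, revAt_le le_rfl, Nat.sub_self, pow_zero, one_mul] at this
    have h2 : reflect L (1 : F[X]) = X ^ L := by
      have := reflect_C (1 : F) L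
      rwa [map_one, one_mul] at this
    rw [reverse, hd, reflect_sub, h1, h2]
  rw [tilde, srev, Polynomial.map_id, hrev, coeff_sub, coeff_X_pow, coeff_one_zero,
    if_neg (by omega), zero_sub, RingHom.id_apply, inv_neg, inv_one, map_neg, map_one]
  ring

variable [Fintype F]

/-- The part of a self-reciprocal polynomial away from `±1`. -/
structure Away (f : F[X]) (h M L : ℕ) : Prop where
  monic : f.Monic
  deg : f.natDegree = 2 * h
  cop : ∀ c : F, c * c = 1 → IsCoprime f (X - C c)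
  const : f.coeff 0 = 1
  ex : ∃ h₀, Merge (Fintype.card F) h₀ L ∧ h₀ + M ≤ h + 1
  zero : M = 0 → h = 0 ∧ L = 1
  even : 1 ≤ M → Odd (Fintype.card F) → 2 ∣ L
  dvd : f ∣ (X ^ L - 1) ^ M

omit [Fintype F] in
theorem coprime_lin {P : F[X]} (hP : Irreducible P) (hm : P.Monic) {c : F} (hne : P ≠ X - C c) :
    IsCoprime P (X - C c) :=
  hP.coprime_iff_not_dvd.2 fun h =>
    hne (eq_of_monic_of_associated hm (monic_X_sub_C c) (hP.associated_of_dvd (irreducible_X_sub_C c) h))

/-- Add one self-reciprocal piece. -/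
theorem Away.mul {f a : F[X]} {h M L k : ℕ} (hf : Away f h M L) (ham : a.Monic) (hk : 1 ≤ k)
    (had : a.natDegree = 2 * k) (hacop : ∀ c : F, c * c = 1 → IsCoprime a (X - C c))
    (hac : a.coeff 0 = 1)
    (hcase : a ∣ X ^ L - 1 ∨ IsCoprime a (X ^ L - 1))
    (hnew : ∀ h₀, Merge (Fintype.card F) h₀ L → ∃ L', Merge (Fintype.card F) (h₀ + k) L' ∧ L ∣ L' ∧
      a ∣ X ^ L' - 1 ∧ (Odd (Fintype.card F) → 2 ∣ L')) :
    ∃ M' L', Away (a * f) (k + h) M' L' := by
  obtain ⟨h₀, hm, hh⟩ : ∃ h₀, Merge (Fintype.card F) h₀ L ∧ h₀ + max M 1 ≤ h + 1 := by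
    obtain ⟨h₀, hm, hh⟩ := hf.ex
    rcases Nat.eq_zero_or_pos M with rfl | hM
    · obtain ⟨-, rfl⟩ := hf.zero rfl
      exact ⟨0, merge_one _, by omega⟩
    · exact ⟨h₀, hm, by omega⟩
  have hmon := ham.mul hf.monic
  have hdeg : (a * f).natDegree = 2 * (k + h) := by
    rw [ham.natDegree_mul hf.monic, had, hf.deg]; ring
  have hcop : ∀ c : F, c * c = 1 → IsCoprime (a * f) (X - C c) := fun c hc =>
    (hacop c hc).mul_left (hf.cop c hc)
  have hco : (a * f).coeff 0 = 1 := by rw [mul_coeff_zero, hac, hf.const, one_mul]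
  rcases hcase with hd | hc
  · have hM : 1 ≤ M := by
      by_contra hM
      obtain ⟨-, hL⟩ := hf.zero (by omega)
      rw [hL, pow_one] at hd
      have h1 : IsCoprime a (X - C (1 : F)) := hacop 1 (one_mul 1)
      rw [map_one] at h1
      have hu := h1.isUnit_of_dvd' dvd_rfl hd
      have := natDegree_eq_zero_of_isUnit hu
      omega
    refine ⟨M + 1, L, hmon, hdeg, hcop, hco, ⟨h₀, hm, by omega⟩, by omega,
      fun _ hq => hf.even hM hq, ?_⟩
    rw [pow_succ']
    exact mul_dvd_mul hd hf.dvd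
  · obtain ⟨L', hm', hLL, haL, hev⟩ := hnew h₀ hm
    refine ⟨max M 1, L', hmon, hdeg, hcop, hco, ⟨h₀ + k, hm', by omega⟩, by omega,
      fun _ hq => hev hq, ?_⟩
    have hLd : (X : F[X]) ^ L - 1 ∣ X ^ L' - 1 := by
      obtain ⟨t, rfl⟩ := hLL
      rw [pow_mul]
      exact sub_one_dvd_pow_sub_one _ _
    have hboth : a * (X ^ L - 1) ∣ X ^ L' - 1 := hc.mul_dvd haL hLd
    rcases Nat.eq_zero_or_pos M with rfl | hM
    · have hu : f ∣ 1 := by simpa using hf.dvd
      rw [show max 0 1 = 1 by rfl, pow_one]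
      exact (mul_dvd_mul_left a hu).trans (by rw [mul_one]; exact haL)
    · rw [max_eq_left hM]
      calc a * f ∣ a * (X ^ L - 1) ^ M := mul_dvd_mul_left a hf.dvd
        _ = (a * (X ^ L - 1)) * (X ^ L - 1) ^ (M - 1) := by
          rw [mul_assoc, ← pow_succ', Nat.sub_add_cancel hM]
        _ ∣ (X ^ L' - 1) * (X ^ L' - 1) ^ (M - 1) :=
          mul_dvd_mul hboth (pow_dvd_pow_of_dvd hLd _)
        _ = (X ^ L' - 1) ^ M := by rw [← pow_succ', Nat.sub_add_cancel hM]

/-- The decomposition. -/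
theorem exists_split (f : F[X]) (hf : f.Monic) (h0 : f.coeff 0 ≠ 0)
    (ht : tilde (RingHom.id F) f = f) :
    ∃ (u v h M L : ℕ) (f₀ : F[X]),
      f = (X - C 1) ^ u * (X - C (-1)) ^ v * f₀ ∧ Away f₀ h M L := by
  induction hn : f.natDegree using Nat.strong_induction_on generalizing f with
  | _ n ih =>
    rcases Nat.eq_zero_or_pos n with rfl | hpos
    · have h1 : f = 1 := hf.natDegree_eq_zero.1 hn
      subst h1
      exact ⟨0, 0, 0, 0, 1, 1, by simp, monic_one, by simp, fun c _ => isCoprime_one_left,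
        by simp, ⟨0, merge_one _, by omega⟩, fun _ => ⟨rfl, rfl⟩, fun h => absurd h (by omega),
        by simp⟩
    obtain ⟨a, b, ham, hbm, rfl, had, hat, hbt, hcase⟩ :=
      exists_piece (RingHom.id F) (fun _ => rfl) hf h0 ht (by omega)
    rw [mul_coeff_zero, mul_ne_zero_iff] at h0
    obtain ⟨u, v, h, M, L, f₀, hbf, hA⟩ := ih b.natDegree
      (by rw [← hn, ham.natDegree_mul hbm]; omega) b hbm h0.2 hbt rfl
    have hq2 : 2 ≤ Fintype.card F := Fintype.one_lt_card
    have hL1 : 1 ≤ L := by obtain ⟨h₀, hm, -⟩ := hA.ex; exact hm.one_le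
    rcases hcase with hirr | ⟨P, hP, hPm, hPc, hTne, rfl⟩
    · rcases self_cases hirr ham h0.1 hat with ha | ha | ⟨k, hk, hdk, hdvd⟩
      · exact ⟨u + 1, v, h, M, L, f₀, by rw [hbf, ha]; ring, hA⟩
      · exact ⟨u, v + 1, h, M, L, f₀, by rw [hbf, ha]; ring, hA⟩
      · have hne : ∀ c : F, a ≠ X - C c := fun c hc => by
          rw [hc, natDegree_X_sub_C] at hdk; omega
        have hconst : a.coeff 0 = 1 := by
          have h1 : a.eval 1 ≠ 0 := fun he => by
            have hd := dvd_iff_isRoot.2 (show a.IsRoot 1 from he)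
            exact hne 1 (eq_of_monic_of_associated ham (monic_X_sub_C 1)
              ((irreducible_X_sub_C (1 : F)).associated_of_dvd hirr hd).symm)
          have h2 := aeval_reverse_of_mul_eq_one (F := F) (R := F) (one_mul (1 : F)) a
          rw [reverse_of_tilde h0.1 hat, one_pow, mul_one, map_mul, aeval_C, coe_aeval_eq_eval,
            Algebra.algebraMap_self, RingHom.id_apply] at h2
          exact mul_right_cancel₀ h1 (by rw [h2, one_mul])
        obtain ⟨M', L', hA'⟩ := hA.mul ham hk hdk (fun c _ => coprime_lin hirr ham (hne c)) hconst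
          ((em _).imp id fun h => hirr.coprime_iff_not_dvd.2 h) (fun h₀ hm => by
            obtain ⟨L', hm', hd1, hd2⟩ := hm.self hq2 hk
            refine ⟨L', hm', hd1, hdvd.trans ?_, fun hodd => ?_⟩
            · obtain ⟨t, rfl⟩ := hd2
              rw [pow_mul _ _ t]
              exact sub_one_dvd_pow_sub_one _ _
            · exact dvd_trans (even_iff_two_dvd.1 ((hodd.pow (n := k)).add_one)) hd2)
        exact ⟨u, v, k + h, M', L', a * f₀, by rw [hbf]; ring, hA'⟩
    · obtain ⟨hQm, hTd, hTc⟩ := tilde_facts (RingHom.id F) hPm hPc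
      have hQ := tilde_irreducible (RingHom.id F) (fun _ => rfl) hPm hPc hP
      obtain ⟨Q, hT⟩ : ∃ Q, tilde (RingHom.id F) P = Q := ⟨_, rfl⟩
      rw [hT] at ham hTne hQm hQ hat had ⊢
      have hPQ : P ≠ Q := Ne.symm hTne
      have hne : ∀ c : F, c * c = 1 → P ≠ X - C c ∧ Q ≠ X - C c := fun c hc =>
        ⟨fun hPc' => hPQ (by rw [← hT, hPc', tilde_X_sub_C hc]),
         fun hQc' => hPQ (by
          have := tilde_tilde (RingHom.id F) (fun _ => rfl) hPm hPc
          rw [hT, hQc', tilde_X_sub_C hc] at this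
          rw [← this, hQc'])⟩
      have hdQ : Q.natDegree = P.natDegree := by rw [← hT]; exact hTd
      have hdk : (P * Q).natDegree = 2 * P.natDegree := by rw [hPm.natDegree_mul hQm, hdQ]; ring
      have hcopPQ : IsCoprime P Q := hP.coprime_iff_not_dvd.2 fun h =>
        hPQ (eq_of_monic_of_associated hPm hQm (hP.associated_of_dvd hQ h))
      have hiff : P ∣ X ^ L - 1 ↔ Q ∣ X ^ L - 1 := by
        constructor
        · rintro ⟨R, hR⟩
          exact ⟨tilde (RingHom.id F) R, by rw [← hT, ← tilde_mul, ← hR, tilde_X_pow_sub_one hL1]⟩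
        · rintro ⟨R, hR⟩
          refine ⟨tilde (RingHom.id F) R, ?_⟩
          rw [← tilde_tilde (RingHom.id F) (fun _ => rfl) hPm hPc, hT, ← tilde_mul, ← hR,
            tilde_X_pow_sub_one hL1]
      have hcs : P * Q ∣ X ^ L - 1 ∨ IsCoprime (P * Q) (X ^ L - 1) := by
        by_cases hd : P ∣ X ^ L - 1
        · exact Or.inl (hcopPQ.mul_dvd hd (hiff.1 hd))
        · exact Or.inr ((hP.coprime_iff_not_dvd.2 hd).mul_left
            (hQ.coprime_iff_not_dvd.2 (mt hiff.2 hd)))
      obtain ⟨M', L', hA'⟩ := hA.mul ham hP.natDegree_pos hdk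
        (fun c hc => (coprime_lin hP hPm (hne c hc).1).mul_left (coprime_lin hQ hQm (hne c hc).2))
        (by rw [mul_coeff_zero, ← hT, hTc, RingHom.id_apply, mul_inv_cancel₀ hPc]) hcs
        (fun h₀ hm => by
          refine ⟨_, hm.pair hq2 hP.natDegree_pos, dvd_mul_right _ _, ?_, fun hodd => ?_⟩
          · have hQ0 : Q.coeff 0 ≠ 0 := by rw [← hT, hTc]; simpa using hPc
            have h1 := dvd_pow_sub_one hP hPc
            have h2 := dvd_pow_sub_one hQ hQ0
            rw [hdQ] at h2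
            refine (hcopPQ.mul_dvd h1 h2).trans ?_
            rw [mul_comm L, pow_mul]
            exact sub_one_dvd_pow_sub_one _ _
          · exact Dvd.dvd.mul_left (even_iff_two_dvd.1 (Nat.Odd.sub_odd hodd.pow odd_one)) _)
      exact ⟨u, v, P.natDegree + h, M', L', P * Q * f₀, by rw [hbf]; ring, hA'⟩

end CfsgLib.KnownA.RecipOrder
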