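import Cfsg.Prelude.Def_Classical
import Cfsg.Agent.Lib.KnownA.RecipOrder.Bound
import Cfsg.Agent.Lib.Geom.StdForms

/-!
Element orders of the orthogonal groups.
-/

set_option autoImplicit false

namespace CfsgLib.KnownA.RecipOrder

open Polynomial Matrix

variable {F : Type*} [Field F] {ι : Type} [Fintype ι] [DecidableEq ι]

/-- An isometry of a non-degenerate bilinear Gram matrix has reciprocal characteristic polynomial. -/
theorem charpoly_reverse_of_gram {A G : Matrix ι ι F} (hG : G.det ≠ 0) (h : Aᵀ * G * A = G)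
    (hdet : A.det = 1) :
    A.charpoly.reverse = A.charpoly ∨ A.charpoly.reverse = -A.charpoly := by
  have hAu : IsUnit A := A.isUnit_iff_isUnit_det.2 (by rw [hdet]; exact isUnit_one)
  have hGu : IsUnit G := G.isUnit_iff_isUnit_det.2 (IsUnit.mk0 _ hG)
  have hGd : IsUnit G.det := IsUnit.mk0 _ hG
  have hinv : A⁻¹ = G⁻¹ * Aᵀ * G := by
    refine inv_eq_left_inv ?_
    rw [mul_assoc G⁻¹ Aᵀ G, mul_assoc G⁻¹, h, nonsing_inv_mul _ hGd]
  have h1 : A⁻¹.charpoly = A.charpoly := by
    rw [hinv, mul_assoc, charpoly_mul_comm, mul_assoc, mul_nonsing_inv _ hGd, mul_one,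
      charpoly_transpose]
  rw [charpoly_inv _ hAu, hdet, ← reverse_charpoly] at h1
  simp only [Ring.inverse_one, map_one, mul_one] at h1
  rcases neg_one_pow_eq_or (F[X]) (Fintype.card ι) with e | e <;> rw [e] at h1
  · left; simpa using h1
  · right; rw [neg_one_mul] at h1; exact neg_eq_iff_eq_neg.1 h1

variable [Fintype F] {p : ℕ} [Fact p.Prime] [CharP F p]

/-- The order bound in `PΩ`. -/
theorem pOmega_bound {m : ℕ}
    (hcard : Fintype.card ι = 2 * m ∨ (Fintype.card ι = 2 * m + 1 ∧ 3 ≤ p ∧ 3 ≤ m))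
    (Q : QuadraticForm F (ι → F)) (f : (ι → F) → F) (hf : f = ⇑Q)
    (hG : (LinearMap.toMatrix₂' F Q.polarBilin).det ≠ 0) (g : Cfsg.POmega F f) :
    (Fintype.card F - 1) * orderOf g ≤ Fintype.card F ^ (m + 1) := by
  classical
  obtain ⟨x, rfl⟩ := QuotientGroup.mk'_surjective _ g
  set A : Matrix ι ι F := (x.1.1 : Matrix ι ι F)
  have hdet : A.det = 1 := by
    let dh : ↥(Cfsg.isometryGroup F f) →* Fˣ :=
      Matrix.GeneralLinearGroup.det.comp (Cfsg.isometryGroup F f).subtype
    have h : commutator ↥(Cfsg.isometryGroup F f) ≤ dh.ker := by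
      rw [commutator_def, Subgroup.commutator_le]
      intro a _ b _
      rw [MonoidHom.mem_ker, map_commutatorElement, commutatorElement_eq_one_iff_mul_comm, mul_comm]
    have h2 := congrArg Units.val (MonoidHom.mem_ker.1 (h x.2))
    exact h2
  have hgram : Aᵀ * LinearMap.toMatrix₂' F Q.polarBilin * A = LinearMap.toMatrix₂' F Q.polarBilin := by
    have hpres : ∀ u, f (A *ᵥ u) = f u := fun u => x.1.2 u u
    have e : Q.polarBilin.compl₁₂ (Matrix.toLin' A) (Matrix.toLin' A) = Q.polarBilin := by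
      refine LinearMap.ext fun u => LinearMap.ext fun v => ?_
      rw [LinearMap.compl₁₂_apply, QuadraticMap.polarBilin_apply_apply,
        QuadraticMap.polarBilin_apply_apply, Matrix.toLin'_apply, Matrix.toLin'_apply,
        QuadraticMap.polar, QuadraticMap.polar, ← Matrix.mulVec_add, ← hf, hpres, hpres, hpres]
    have := congrArg (LinearMap.toMatrix₂' F) e
    rwa [LinearMap.toMatrix₂'_compl₁₂, LinearMap.toMatrix'_toLin'] at this
  obtain ⟨E, c, hE, hc, hAE, hle⟩ := exists_small_exponent (p := p) hcard A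
    (charpoly_reverse_of_gram hG hgram hdet) hdet
  refine le_trans (Nat.mul_le_mul le_rfl (Nat.le_of_dvd hE ?_)) hle
  refine orderOf_dvd_of_pow_eq_one ?_
  rw [← map_pow, QuotientGroup.mk'_apply, QuotientGroup.eq_one_iff, Subgroup.mem_center_iff]
  intro y
  refine Subtype.ext (Subtype.ext (Units.ext ?_))
  show y.1.1.1 * (x ^ E).1.1.1 = (x ^ E).1.1.1 * y.1.1.1
  rw [show (x ^ E).1.1.1 = A ^ E by simp [A], hAE]
  simp

/-- `x₀² + Σ xᵢ yᵢ` as a quadratic form. -/
def oddForm (m : ℕ) (F : Type*) [Field F] : QuadraticForm F (Unit ⊕ (Fin m ⊕ Fin m) → F) :=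
  QuadraticMap.linMulLin (LinearMap.proj (Sum.inl ())) (LinearMap.proj (Sum.inl ())) +
    (CfsgLib.Geom.plusForm m F).comp (LinearMap.funLeft F F Sum.inr)

omit [Fintype F] in
theorem oddForm_coe (m : ℕ) : ⇑(oddForm m F) = Cfsg.quadFormOdd m F := by
  funext v
  simp [oddForm, Cfsg.quadFormOdd, CfsgLib.Geom.plusForm_apply, LinearMap.funLeft, sq]

omit [Fintype F] in
theorem oddForm_apply (m : ℕ) (v : Unit ⊕ (Fin m ⊕ Fin m) → F) :
    oddForm m F v = v (Sum.inl ()) * v (Sum.inl ()) +
      CfsgLib.Geom.plusForm m F (fun i => v (Sum.inr i)) := rfl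

omit [Fintype F] in
theorem oddForm_polar (m : ℕ) (u v : Unit ⊕ (Fin m ⊕ Fin m) → F) :
    QuadraticMap.polar (oddForm m F) u v = 2 * (u (Sum.inl ()) * v (Sum.inl ())) +
      QuadraticMap.polar (CfsgLib.Geom.plusForm m F) (fun i => u (Sum.inr i))
        (fun i => v (Sum.inr i)) := by
  simp only [QuadraticMap.polar, oddForm_apply]
  rw [show (fun i => (u + v) (Sum.inr i)) = (fun i => u (Sum.inr i)) + fun i => v (Sum.inr i) from rfl,
    Pi.add_apply]
  ring

omit [Fintype F] in
theorem oddForm_disc (h2 : (2 : F) ≠ 0) (m : ℕ) :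
    (LinearMap.toMatrix₂' F (oddForm m F).polarBilin).det ≠ 0 := by
  have h : LinearMap.toMatrix₂' F (oddForm m F).polarBilin =
      Matrix.fromBlocks ((2 : F) • (1 : Matrix Unit Unit F)) 0 0
        (LinearMap.toMatrix₂' F (CfsgLib.Geom.plusForm m F).polarBilin) := by
    ext i j
    simp only [LinearMap.toMatrix₂'_apply, QuadraticMap.polarBilin_apply_apply, oddForm_polar]
    rcases i with i | i <;> rcases j with j | j <;>
      simp [LinearMap.toMatrix₂'_apply, Pi.single_apply, ← Pi.zero_def] <;>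
      congr 1 <;> ext k <;> simp [Pi.single_apply, eq_comm]
  rw [h, Matrix.det_fromBlocks_zero₁₂, CfsgLib.Geom.plusForm_disc, Matrix.det_smul, Matrix.det_one,
    mul_one, Fintype.card_unit, pow_one]
  exact mul_ne_zero h2 (pow_ne_zero _ (neg_ne_zero.2 one_ne_zero))

end CfsgLib.KnownA.RecipOrder
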